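import Groth.Agent.Lib.PolyFun45.Forms
import Groth.Agent.Lib.Dim.Local
import Mathlib.RingTheory.GradedAlgebra.Radical
import Mathlib.RingTheory.Ideal.MinimalPrime.Noetherian
import Mathlib.RingTheory.Ideal.KrullsHeightTheorem
import Mathlib.RingTheory.Nullstellensatz
import Mathlib.LinearAlgebra.Matrix.NonsingularInverse

/-!
# The dimension of the zero set of forms

* `Null I s L N`: all forms of degree `N` lie in `I + (L)`;
* `dimQ_le_of_null`, `exists_null`: `dim ≤ s` iff `Null` for some `s` linear forms;
* `exists_open`: `Null` is an open condition on the coefficients;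
* `dimQ_le_of_finite_fibre`: finite fibres over `t` functions bound the dimension by `t`.
-/

set_option autoImplicit false

universe u

open MvPolynomial

namespace Groth.Agent.Lib.PolyFun45.Crit

open Groth.Agent.H83.LineExist (Idx form coeff_form form_coeff form_isHomogeneous)
open Groth.Agent.Lib.Dim.Basic (dimQ)

attribute [local instance] MvPolynomial.gradedAlgebra

variable {k : Type u} [Field k] {m : ℕ}

/-- A linear form. -/
noncomputable def lin (ℓ : Fin (m + 1) → k) : MvPolynomial (Fin (m + 1)) k := ∑ i, C (ℓ i) * X i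

theorem lin_isHomogeneous (ℓ : Fin (m + 1) → k) : (lin ℓ).IsHomogeneous 1 :=
  IsHomogeneous.sum _ _ _ fun i _ => isHomogeneous_C_mul_X _ i

/-- All forms of degree `N` lie in `I + (L)`. -/
def Null (I : Ideal (MvPolynomial (Fin (m + 1)) k)) {s : ℕ} (L : Fin s → Fin (m + 1) → k) (N : ℕ) :
    Prop :=
  ∀ p : MvPolynomial (Fin (m + 1)) k, p.IsHomogeneous N →
    p ∈ I ⊔ Ideal.span (Set.range fun b => lin (L b))

theorem homogeneousComponent_mul {l : MvPolynomial (Fin (m + 1)) k} (hl : l.IsHomogeneous 1)
    (q : MvPolynomial (Fin (m + 1)) k) (t : ℕ) :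
    homogeneousComponent (t + 1) (q * l) = homogeneousComponent t q * l := by
  conv_lhs => rw [← sum_homogeneousComponent q, Finset.sum_mul, map_sum]
  rw [Finset.sum_eq_single t]
  · rw [homogeneousComponent_of_mem
      ((mem_homogeneousSubmodule _ _).2 ((homogeneousComponent_isHomogeneous t q).mul hl)), if_pos rfl]
  · intro b _ hb
    rw [homogeneousComponent_of_mem
      ((mem_homogeneousSubmodule _ _).2 ((homogeneousComponent_isHomogeneous b q).mul hl)),
      if_neg (by omega)]
  · intro ht
    rw [Finset.mem_range, not_lt] at ht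
    rw [homogeneousComponent_eq_zero t q (by omega), zero_mul, map_zero]

/-- A power of the irrelevant ideal. -/
theorem mem_of_degree_ge {J : Ideal (MvPolynomial (Fin (m + 1)) k)} {N : ℕ}
    (h : ∀ e : Fin (m + 1) →₀ ℕ, e.degree = N → monomial e (1 : k) ∈ J) {t : ℕ} (ht : N ≤ t)
    {p : MvPolynomial (Fin (m + 1)) k} (hp : p.IsHomogeneous t) : p ∈ J := by
  rw [p.as_sum]
  refine Ideal.sum_mem _ fun e he => ?_
  obtain ⟨f, hfe, hf⟩ : ∃ f ≤ e, f.degree = N := by
    have he' : e.degree = t := by
      by_contra hne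
      exact mem_support_iff.1 he (hp.coeff_eq_zero hne)
    have key : ∀ (d : ℕ) (e : Fin (m + 1) →₀ ℕ), e.degree = N + d → ∃ f ≤ e, f.degree = N := by
      intro d
      induction d with
      | zero => exact fun e he => ⟨e, le_rfl, he⟩
      | succ d ih =>
        intro e he
        obtain ⟨i, hi⟩ : ∃ i, e i ≠ 0 := by
          by_contra hc; push Not at hc
          rw [show e = 0 from Finsupp.ext hc, map_zero] at he; omega
        obtain ⟨f, hf1, hf2⟩ := ih (e - Finsupp.single i 1) (by
          have h2 : (e - Finsupp.single i 1) + Finsupp.single i 1 = e :=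
            tsub_add_cancel_of_le (Finsupp.single_le_iff.2 (Nat.one_le_iff_ne_zero.2 hi))
          have := congrArg Finsupp.degree h2
          rw [map_add, Finsupp.degree_single] at this
          omega)
        exact ⟨f, hf1.trans tsub_le_self, hf2⟩
    exact key (t - N) e (by omega)
  rw [← add_tsub_cancel_of_le hfe, show monomial (f + (e - f)) (coeff (f + (e - f)) p) =
    monomial f 1 * monomial (e - f) (coeff (f + (e - f)) p) by rw [monomial_mul, one_mul]]
  exact J.mul_mem_right _ (h f hf)

variable {I : Ideal (MvPolynomial (Fin (m + 1)) k)}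

/-- The quotient is finite over the linear forms. -/
theorem finite_of_null (hI : I.IsHomogeneous (homogeneousSubmodule (Fin (m + 1)) k)) {s N : ℕ}
    {L : Fin s → Fin (m + 1) → k} (h : Null I L N) :
    ((Ideal.Quotient.mkₐ k I).comp
      (aeval (fun b => lin (L b)) : MvPolynomial (Fin s) k →ₐ[k] _)).Finite := by
  classical
  set g : MvPolynomial (Fin s) k →ₐ[k] MvPolynomial (Fin (m + 1)) k ⧸ I :=
    (Ideal.Quotient.mkₐ k I).comp (aeval fun b => lin (L b))
  let low : Set (Fin (m + 1) →₀ ℕ) := {e | e.degree < N}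
  have hlow : low.Finite := by
    refine Set.Finite.subset ((Set.Finite.pi fun _ : Fin (m + 1) => Set.finite_lt_nat N).preimage
      DFunLike.coe_injective.injOn) fun e he => ?_
    simp only [Set.mem_preimage, Set.mem_univ_pi, Set.mem_ofPred_eq]
    exact fun i => lt_of_le_of_lt (Finsupp.le_degree i e) he
  let _ := g.toRingHom.toAlgebra
  let T : Submodule (MvPolynomial (Fin s) k) (MvPolynomial (Fin (m + 1)) k ⧸ I) :=
    Submodule.span _ ((fun e => Ideal.Quotient.mk I (monomial e (1 : k))) '' low)
  have hC : ∀ (c : k) (z : MvPolynomial (Fin (m + 1)) k),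
      (C c : MvPolynomial (Fin s) k) • Ideal.Quotient.mk I z = Ideal.Quotient.mk I (C c * z) := by
    intro c z
    rw [Algebra.smul_def, map_mul]
    congr 1
    change g (C c) = _
    simp [g]
    rfl
  have key : ∀ (t : ℕ) (p : MvPolynomial (Fin (m + 1)) k), p.IsHomogeneous t →
      Ideal.Quotient.mk I p ∈ T := by
    intro t
    induction t using Nat.strong_induction_on with
    | _ t ih =>
      intro p hp
      by_cases htN : t < N
      · rw [p.as_sum, map_sum]
        refine Submodule.sum_mem _ fun e he => ?_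
        have he' : e.degree = t := by
          by_contra hne
          exact mem_support_iff.1 he (hp.coeff_eq_zero hne)
        rw [← mul_one (coeff e p), ← C_mul_monomial, ← hC]
        exact Submodule.smul_mem _ _ (Submodule.subset_span ⟨e, by simp [low, he', htN], rfl⟩)
      · have hmem : p ∈ I ⊔ Ideal.span (Set.range fun b => lin (L b)) :=
          mem_of_degree_ge (fun e he => h _ (isHomogeneous_monomial _ he)) (not_lt.1 htN) hp
        obtain ⟨y, hy, z, hz, hyz⟩ := Submodule.mem_sup.1 hmem
        obtain ⟨q, rfl⟩ := Ideal.mem_span_range_iff_exists_fun.1 hz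
        rcases Nat.eq_zero_or_pos t with h0 | h0
        · have hN : N = 0 := by omega
          have h1 : p = homogeneousComponent t y := by
            conv_lhs => rw [← homogeneousComponent_eq_self ((mem_homogeneousSubmodule _ _).2 hp), ← hyz]
            rw [map_add, map_sum, Finset.sum_eq_zero (s := Finset.univ) fun b _ => ?_, add_zero]
            subst h0
            rw [homogeneousComponent_zero, ← constantCoeff_eq, map_mul,
              show constantCoeff (lin (L b)) = 0 by simp [lin], mul_zero, map_zero]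
          rw [h1, Ideal.Quotient.eq_zero_iff_mem.2 (homogeneousComponent_mem_of_mem hI hy t)]
          exact T.zero_mem
        obtain ⟨t, rfl⟩ : ∃ t', t = t' + 1 := ⟨t - 1, by omega⟩
        have h1 : p = homogeneousComponent (t + 1) y +
            ∑ b, homogeneousComponent t (q b) * lin (L b) := by
          conv_lhs => rw [← homogeneousComponent_eq_self ((mem_homogeneousSubmodule _ _).2 hp), ← hyz]
          rw [map_add, map_sum]
          congr 1
          exact Finset.sum_congr rfl fun b _ => homogeneousComponent_mul (lin_isHomogeneous _) _ _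
        rw [h1, map_add, Ideal.Quotient.eq_zero_iff_mem.2 (homogeneousComponent_mem_of_mem hI hy _),
          zero_add, map_sum]
        refine Submodule.sum_mem _ fun b _ => ?_
        have h2 : Ideal.Quotient.mk I (homogeneousComponent t (q b) * lin (L b)) =
            (X b : MvPolynomial (Fin s) k) • Ideal.Quotient.mk I (homogeneousComponent t (q b)) := by
          rw [Algebra.smul_def, map_mul, mul_comm]
          congr 1
          change _ = g (X b)
          simp [g]
        rw [h2]
        exact Submodule.smul_mem _ _ (ih t (by omega) _ (homogeneousComponent_isHomogeneous _ _))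
  refine Module.Finite.of_fg_top (Submodule.fg_def.2 ⟨_, hlow.image
    (fun e => Ideal.Quotient.mk I (monomial e (1 : k))), eq_top_iff.2 fun z _ => ?_⟩)
  obtain ⟨p, rfl⟩ := Ideal.Quotient.mk_surjective z
  rw [← sum_homogeneousComponent p, map_sum]
  exact Submodule.sum_mem _ fun t _ => key t _ (homogeneousComponent_isHomogeneous t p)

theorem finite_quotient_of_null (hI : I.IsHomogeneous (homogeneousSubmodule (Fin (m + 1)) k)) {s N : ℕ}
    {L : Fin s → Fin (m + 1) → k} (h : Null I L N) {P : Ideal (MvPolynomial (Fin (m + 1)) k)}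
    (hP : I ≤ P) :
    ((Ideal.Quotient.mkₐ k P).comp
      (aeval (fun b => lin (L b)) : MvPolynomial (Fin s) k →ₐ[k] _)).Finite := by
  have h1 := finite_of_null hI h
  have h2 : (Ideal.Quotient.factorₐ k hP).Finite :=
    RingHom.Finite.of_surjective _ (Ideal.Quotient.factor_surjective hP)
  exact (h2.comp h1 : _)

theorem dimQ_le_of_null (hI : I.IsHomogeneous (homogeneousSubmodule (Fin (m + 1)) k)) {s N : ℕ}
    {L : Fin s → Fin (m + 1) → k} (h : Null I L N) {P : Ideal (MvPolynomial (Fin (m + 1)) k)}
    [P.IsPrime] (hP : I ≤ P) :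
    dimQ k P ≤ s ∧ (s ≤ dimQ k P → AlgebraicIndependent k
      fun b => Ideal.Quotient.mkₐ k P (lin (L b))) := by
  set g : MvPolynomial (Fin s) k →ₐ[k] MvPolynomial (Fin (m + 1)) k ⧸ P :=
    (Ideal.Quotient.mkₐ k P).comp (aeval fun b => lin (L b))
  have hfin : g.Finite := finite_quotient_of_null hI h hP
  have hgr : g = aeval fun b => Ideal.Quotient.mkₐ k P (lin (L b)) :=
    MvPolynomial.algHom_ext fun i => by simp [g]
  set x : Fin s → MvPolynomial (Fin (m + 1)) k ⧸ P := fun b => Ideal.Quotient.mkₐ k P (lin (L b))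
  have halg : Algebra.IsAlgebraic (Algebra.adjoin k (Set.range x)) (MvPolynomial (Fin (m + 1)) k ⧸ P) := by
    have hint : ∀ z : MvPolynomial (Fin (m + 1)) k ⧸ P, IsIntegral (Algebra.adjoin k (Set.range x)) z := by
      intro z
      have hz : g.toRingHom.IsIntegralElem z := RingHom.Finite.to_isIntegral hfin z
      obtain ⟨p, hp, hz⟩ := hz
      let g' : MvPolynomial (Fin s) k →+* Algebra.adjoin k (Set.range x) :=
        g.toRingHom.codRestrict _ fun y => by
          show g y ∈ Algebra.adjoin k (Set.range x)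
          rw [hgr, Algebra.adjoin_range_eq_range_aeval]
          exact ⟨y, rfl⟩
      refine ⟨p.map g', hp.map _, ?_⟩
      rw [Polynomial.eval₂_map]
      exact hz
    exact ⟨fun z => (hint z).isAlgebraic⟩
  refine ⟨?_, fun hs => ?_⟩
  · have h1 := Algebra.IsAlgebraic.trdeg_le_cardinalMk k (Set.range x)
    rw [Lib.Dim.Basic.trdeg_quotient] at h1
    have h2 : Cardinal.mk (Set.range x) ≤ (s : Cardinal) := by
      have := Cardinal.mk_range_le_lift (f := x)
      simpa using this
    exact_mod_cast h1.trans h2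
  · refine (Algebra.IsAlgebraic.isTranscendenceBasis_of_lift_le_trdeg_of_finite k x ?_).1
    rw [Lib.Dim.Basic.trdeg_quotient]
    simp [hs]

/-- Avoidance of the non-irrelevant primes by a linear form. -/
theorem exists_lin [Infinite k] (S : Finset (Ideal (MvPolynomial (Fin (m + 1)) k)))
    (hS : ∀ P ∈ S, ∃ i, X i ∉ P) : ∃ ℓ : Fin (m + 1) → k, ∀ P ∈ S, lin ℓ ∉ P := by
  classical
  choose i hi using hS
  have hg : ∀ P : S, ∃ g : Module.Dual k (MvPolynomial (Fin (m + 1)) k ⧸ (P : Ideal _)),
      g (Ideal.Quotient.mkₐ k _ (X (i P.1 P.2))) ≠ 0 := fun P => by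
    by_contra hc
    push Not at hc
    refine hi P.1 P.2 (Ideal.Quotient.eq_zero_iff_mem.1 ?_)
    exact (Module.forall_dual_apply_eq_zero_iff k _).1 hc
  choose g hg using hg
  let f : S → MvPolynomial (Fin (m + 1)) k := fun P =>
    ∑ j, C (g P (Ideal.Quotient.mkₐ k _ (X j))) * X j
  have hf : ∀ P, f P ≠ 0 := fun P h => by
    have := congrArg (coeff (Finsupp.single (i P.1 P.2) 1)) h
    simp [f, coeff_sum, coeff_C_mul, coeff_X, Finsupp.single_left_inj] at this
    exact hg P this
  obtain ⟨ℓ, hℓ⟩ : ∃ ℓ, eval ℓ (∏ P, f P) ≠ 0 := by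
    by_contra hc
    push Not at hc
    exact Finset.prod_ne_zero_iff.2 (fun P _ => hf P) (MvPolynomial.funext fun x => by rw [map_zero]; exact hc x)
  refine ⟨ℓ, fun P hP hmem => ?_⟩
  rw [map_prod, Finset.prod_ne_zero_iff] at hℓ
  refine hℓ ⟨P, hP⟩ (Finset.mem_univ _) ?_
  have h0 := congrArg (g ⟨P, hP⟩) (Ideal.Quotient.eq_zero_iff_mem.2 hmem)
  rw [← Ideal.Quotient.mkₐ_eq_mk k, map_zero, lin, map_sum, map_sum] at h0
  rw [← h0, map_sum]
  refine Finset.sum_congr rfl fun j _ => ?_
  rw [show C (ℓ j) * X j = ℓ j • X j from (smul_eq_C_mul _ _).symm, map_smul, map_smul]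
  simp [mul_comm]

theorem isHomogeneous_minimalPrime {P : Ideal (MvPolynomial (Fin (m + 1)) k)}
    (hI : I.IsHomogeneous (homogeneousSubmodule (Fin (m + 1)) k)) (hP : P ∈ I.minimalPrimes) :
    P.IsHomogeneous (homogeneousSubmodule (Fin (m + 1)) k) := by
  have h1 := hP.1.1.homogeneousCore (𝒜 := homogeneousSubmodule (Fin (m + 1)) k)
  have h2 : I ≤ (P.homogeneousCore (homogeneousSubmodule (Fin (m + 1)) k)).toIdeal :=
    hI.toIdeal_homogeneousCore_eq_self.symm.le.trans (Ideal.homogeneousCore_mono _ hP.1.2)
  rw [Ideal.IsHomogeneous.iff_eq]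
  exact le_antisymm (Ideal.toIdeal_homogeneousCore_le _ _)
    (hP.2 ⟨h1, h2⟩ (Ideal.toIdeal_homogeneousCore_le _ _))

theorem coeff_zero_of_mem {P : Ideal (MvPolynomial (Fin (m + 1)) k)}
    (hP : P.IsHomogeneous (homogeneousSubmodule (Fin (m + 1)) k)) (hne : P ≠ ⊤)
    {p : MvPolynomial (Fin (m + 1)) k} (hp : p ∈ P) : coeff 0 p = 0 := by
  by_contra h
  have := homogeneousComponent_mem_of_mem hP hp 0
  rw [homogeneousComponent_zero] at this
  exact hne (Ideal.eq_top_of_isUnit_mem _ this ((isUnit_iff_ne_zero.2 h).map C))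

/-- The converse criterion. -/
theorem exists_null [Infinite k] : ∀ (s : ℕ) (I : Ideal (MvPolynomial (Fin (m + 1)) k)),
    I.IsHomogeneous (homogeneousSubmodule (Fin (m + 1)) k) →
    (∀ P ∈ I.minimalPrimes, dimQ k P ≤ s) →
    ∃ (L : Fin s → Fin (m + 1) → k) (N : ℕ), Null I L N := by
  classical
  intro s
  induction s with
  | zero =>
    intro I hI hdim
    have hX : ∀ i, X i ∈ I.radical := fun i => by
      rw [← Ideal.sInf_minimalPrimes, Ideal.mem_sInf]
      intro P hP
      by_contra hXi
      have hPp : P.IsPrime := hP.1.1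
      have hmax : P.IsMaximal := by
        by_contra hnm
        obtain ⟨M, hM, hle⟩ := Ideal.exists_le_maximal P hPp.ne_top
        have := Lib.Dim.Basic.dimQ_lt_of_lt k (lt_of_le_of_ne hle fun h => hnm (h ▸ hM))
        have := hdim P hP
        omega
      have hPh := isHomogeneous_minimalPrime hI hP
      have hle : P ≤ RingHom.ker (constantCoeff : MvPolynomial (Fin (m + 1)) k →+* k) := fun p hp => by
        rw [RingHom.mem_ker, constantCoeff_eq]
        exact coeff_zero_of_mem hPh hPp.ne_top hp
      have heq := hmax.eq_of_le (RingHom.ker_ne_top _) hle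
      exact hXi (heq ▸ by simp [RingHom.mem_ker])
    obtain ⟨n, hn⟩ := Ideal.exists_radical_pow_le_of_fg I (IsNoetherian.noetherian _)
    refine ⟨Fin.elim0, n, fun p hp => Submodule.mem_sup_left ?_⟩
    refine hn ?_
    rw [p.as_sum]
    refine Ideal.sum_mem _ fun e he => ?_
    have he' : e.degree = n := by
      by_contra hne
      exact mem_support_iff.1 he (hp.coeff_eq_zero hne)
    rw [monomial_eq, ← he', Finsupp.degree_apply, ← Finset.prod_pow_eq_pow_sum]
    exact Ideal.mul_mem_left _ _ (Ideal.prod_mem_prod fun i _ => Ideal.pow_mem_pow (hX i) _)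
  | succ s ih =>
    intro I hI hdim
    let S := I.finite_minimalPrimes_of_isNoetherianRing.toFinset.filter fun P => ∃ i, X i ∉ P
    obtain ⟨ℓ, hℓ⟩ := exists_lin S fun P hP => (Finset.mem_filter.1 hP).2
    have hI' : (I ⊔ Ideal.span {lin ℓ}).IsHomogeneous (homogeneousSubmodule (Fin (m + 1)) k) :=
      hI.sup (Ideal.homogeneous_span _ _ fun x hx => ⟨1, by
        rw [Set.mem_singleton_iff.1 hx]; exact (mem_homogeneousSubmodule _ _).2 (lin_isHomogeneous ℓ)⟩)
    have hdim' : ∀ P' ∈ (I ⊔ Ideal.span {lin ℓ}).minimalPrimes, dimQ k P' ≤ s := by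
      intro P' hP'
      have hP'p : P'.IsPrime := hP'.1.1
      obtain ⟨P, hP, hle⟩ := Ideal.exists_minimalPrimes_le (le_sup_left.trans hP'.1.2)
      have hPp : P.IsPrime := hP.1.1
      by_cases hirr : ∃ i, X i ∉ P
      · have hlP : lin ℓ ∉ P := hℓ P (Finset.mem_filter.2 ⟨Set.Finite.mem_toFinset _ |>.2 hP, hirr⟩)
        have hlt : P < P' := lt_of_le_of_ne hle fun h =>
          hlP (h ▸ hP'.1.2 (Ideal.mem_sup_right (Ideal.mem_span_singleton_self _)))
        have := Lib.Dim.Basic.dimQ_lt_of_lt k hlt
        have := hdim P hP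
        omega
      · push Not at hirr
        have hmax : P'.IsMaximal := by
          have hle' : RingHom.ker (constantCoeff : MvPolynomial (Fin (m + 1)) k →+* k) ≤ P' := by
            intro p hp
            rw [RingHom.mem_ker] at hp
            rw [p.as_sum]
            refine Ideal.sum_mem _ fun e he => ?_
            obtain ⟨i, hi⟩ : ∃ i, e i ≠ 0 := by
              by_contra hc; push Not at hc
              rw [show e = 0 from Finsupp.ext hc, mem_support_iff, ← constantCoeff_eq] at he
              exact he hp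
            rw [← add_tsub_cancel_of_le (Finsupp.single_le_iff.2 (Nat.one_le_iff_ne_zero.2 hi)),
              monomial_single_add, pow_one]
            exact Ideal.mul_mem_right _ _ (hle (hirr i))
          have hm := RingHom.ker_isMaximal_of_surjective
            (constantCoeff : MvPolynomial (Fin (m + 1)) k →+* k) fun c => ⟨C c, constantCoeff_C _ c⟩
          exact hm.eq_of_le hP'p.ne_top hle' ▸ hm
        rw [Lib.Dim.Basic.dimQ_eq_zero_of_isMaximal k P']
        exact Nat.zero_le _
    obtain ⟨L, N, hN⟩ := ih _ hI' hdim'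
    refine ⟨Fin.cons ℓ L, N, fun p hp => ?_⟩
    refine SetLike.le_def.1 (sup_le (sup_le le_sup_left ?_) ?_) (hN p hp)
    · exact le_sup_of_le_right (Ideal.span_mono (by
        rintro _ rfl; exact ⟨0, by simp⟩))
    · exact le_sup_of_le_right (Ideal.span_mono (by
        rintro _ ⟨b, rfl⟩; exact ⟨b.succ, by simp⟩))

/-- Nullity is open in the coefficients. -/
theorem exists_open {J : Type} [Finite J] (a : J → ℕ) {s N : ℕ} (L : Fin s → Fin (m + 1) → k)
    (c : (j : J) → Idx m (a j) → k) (h : Null (Ideal.span (Set.range fun j => form (c j))) L N) :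
    ∃ Δ : MvPolynomial (Σ j, Idx m (a j)) k, eval (fun x => c x.1 x.2) Δ ≠ 0 ∧
      ∀ c' : (j : J) → Idx m (a j) → k, eval (fun x => c' x.1 x.2) Δ ≠ 0 →
        Null (Ideal.span (Set.range fun j => form (c' j))) L N := by
  classical
  have := Fintype.ofFinite J
  let R := MvPolynomial (Σ j, Idx m (a j)) k
  let gen : J ⊕ Fin s → MvPolynomial (Fin (m + 1)) R := Sum.elim
    (fun j => form fun e => X (⟨j, e⟩ : Σ j, Idx m (a j)))
    (fun b => MvPolynomial.map C (lin (L b)))
  let col : (J ⊕ Fin s) × (Fin (m + 1) →₀ ℕ) → Idx m N → R := fun z e =>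
    coeff e.1 (monomial z.2 1 * gen z.1)
  let sp : ((j : J) → Idx m (a j) → k) → Ideal (MvPolynomial (Fin (m + 1)) k) := fun c' =>
    Ideal.span (Set.range fun j => form (c' j)) ⊔ Ideal.span (Set.range fun b => lin (L b))
  let ev : ((j : J) → Idx m (a j) → k) → R →+* k := fun c' => eval fun x => c' x.1 x.2
  have hmap : ∀ c' l, MvPolynomial.map (ev c') (gen l) =
      Sum.elim (fun j => form (c' j)) (fun b => lin (L b)) l := by
    intro c' l
    cases l with
    | inl j =>
      simp only [gen, Sum.elim_inl, H83.LineExist.map_form]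
      congr 1; funext e; exact eval_X _
    | inr b =>
      simp only [gen, Sum.elim_inr, MvPolynomial.map_map]
      rw [show (ev c').comp C = RingHom.id k from RingHom.ext fun x => eval_C _, MvPolynomial.map_id]
  -- the degree `N` vectors of members span
  let V : ((j : J) → Idx m (a j) → k) → Submodule k (Idx m N → k) := fun c' =>
    Submodule.span k (Set.range fun z => fun e => ev c' (col z e))
  have hspan : V c = ⊤ := by
    rw [eq_top_iff]
    intro v _
    have hv := h (form v) (form_isHomogeneous v)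
    rw [show v = fun e => coeff e.1 (form v) from funext fun e => (coeff_form v e).symm]
    generalize form v = p at hv ⊢
    rw [← Ideal.span_union, ← Set.Sum.elim_range] at hv
    obtain ⟨q, rfl⟩ := Ideal.mem_span_range_iff_exists_fun.1 hv
    have : (fun e : Idx m N => coeff e.1 (∑ l, q l * Sum.elim (fun j => form (c j)) (fun b => lin (L b)) l)) =
        ∑ l, ∑ f ∈ (q l).support, coeff f (q l) • fun e => ev c (col (l, f) e) := by
      funext e
      rw [coeff_sum, Finset.sum_apply]
      refine Finset.sum_congr rfl fun l _ => ?_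
      rw [Finset.sum_apply]
      conv_lhs => rw [(q l).as_sum, Finset.sum_mul, coeff_sum]
      refine Finset.sum_congr rfl fun f _ => ?_
      rw [Pi.smul_apply, smul_eq_mul, ← coeff_map, map_mul, map_monomial, map_one, hmap,
        ← mul_one (coeff f (q l)), ← C_mul_monomial, mul_assoc, coeff_C_mul, mul_one]
    rw [this]
    exact Submodule.sum_mem _ fun l _ => Submodule.sum_mem _ fun f _ =>
      Submodule.smul_mem _ _ (Submodule.subset_span ⟨(l, f), rfl⟩)
  have hfr : Module.finrank k (V c) = Fintype.card (Idx m N) := by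
    rw [hspan, finrank_top, Module.finrank_fintype_fun_eq_card]
  obtain ⟨f, hfs, -, hfli⟩ := Submodule.exists_fun_fin_finrank_span_eq k
    (Set.range fun z => fun e => ev c (col z e))
  choose z hz using hfs
  let ι : Idx m N ≃ Fin (Module.finrank k (V c)) := (Fintype.equivFin _).trans (finCongr hfr.symm)
  let M : Matrix (Idx m N) (Idx m N) R := fun x e => col (z (ι x)) e
  have hM : ∀ c', (ev c') M.det = (M.map (ev c')).det := fun c' => RingHom.map_det _ _
  refine ⟨M.det, ?_, fun c' hc' p hp => ?_⟩
  · show ev c M.det ≠ 0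
    rw [hM, ← isUnit_iff_ne_zero, ← Matrix.isUnit_iff_isUnit_det,
      ← Matrix.linearIndependent_rows_iff_isUnit]
    rw [show (M.map (ev c)).row = f ∘ ι from funext fun x => hz (ι x)]
    exact hfli.comp ι ι.injective
  · change ev c' M.det ≠ 0 at hc'
    rw [hM, ← isUnit_iff_ne_zero] at hc'
    set A := M.map (ev c')
    let u : Idx m N → k := Matrix.vecMul (fun e => coeff e.1 p) A⁻¹
    have hu : Matrix.vecMul u A = fun e : Idx m N => coeff e.1 p := by
      rw [Matrix.vecMul_vecMul, Matrix.nonsing_inv_mul _ hc', Matrix.vecMul_one]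
    -- degree `N` part of the corresponding combination
    let w : MvPolynomial (Fin (m + 1)) k := ∑ x, C (u x) * homogeneousComponent N
      (monomial (z (ι x)).2 1 * Sum.elim (fun j => form (c' j)) (fun b => lin (L b)) (z (ι x)).1)
    have hw : w = p := by
      ext e
      by_cases he : e.degree = N
      · have := congrFun hu ⟨e, he⟩
        simp only [Matrix.vecMul, dotProduct] at this
        rw [← this, coeff_sum]
        refine Finset.sum_congr rfl fun x _ => ?_
        rw [coeff_C_mul, coeff_homogeneousComponent, if_pos he]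
        congr 1
        change _ = ev c' (coeff e (monomial (z (ι x)).2 1 * gen (z (ι x)).1))
        rw [← coeff_map, map_mul, map_monomial, (ev c').map_one, hmap]
      · rw [hp.coeff_eq_zero he, coeff_sum]
        exact Finset.sum_eq_zero fun x _ => by
          rw [coeff_C_mul, coeff_homogeneousComponent, if_neg he, mul_zero]
    rw [← hw]
    have hhom : (sp c').IsHomogeneous (homogeneousSubmodule (Fin (m + 1)) k) :=
      Ideal.IsHomogeneous.sup (Ideal.homogeneous_span _ _ fun x hx => by
          obtain ⟨j, rfl⟩ := hx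
          exact ⟨_, (mem_homogeneousSubmodule _ _).2 (form_isHomogeneous _)⟩)
        (Ideal.homogeneous_span _ _ fun x hx => by
          obtain ⟨b, rfl⟩ := hx
          exact ⟨_, (mem_homogeneousSubmodule _ _).2 (lin_isHomogeneous _)⟩)
    refine Ideal.sum_mem _ fun x _ => Ideal.mul_mem_left _ _
      (homogeneousComponent_mem_of_mem hhom (Ideal.mul_mem_left _ _ ?_) _)
    rcases (z (ι x)).1 with j | b
    · exact Ideal.mem_sup_left (Ideal.subset_span ⟨j, rfl⟩)
    · exact Ideal.mem_sup_right (Ideal.subset_span ⟨b, rfl⟩)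

/-- Finite fibres over `t` functions on an open part bound the dimension by `t`. -/
theorem dimQ_le_of_finite_fibre [IsAlgClosed k] {ι : Type} [Finite ι]
    (Q : Ideal (MvPolynomial ι k)) [Q.IsPrime] {Δ : MvPolynomial ι k} (hΔ : Δ ∉ Q)
    {t : ℕ} (ψ : Fin t → MvPolynomial ι k)
    (h : ∀ v : ι → k, {x : ι → k | (∀ q ∈ Q, eval x q = 0) ∧ eval x Δ ≠ 0 ∧
      ∀ l, eval x (ψ l) = eval v (ψ l)}.Finite) :
    dimQ k Q ≤ t := by
  classical
  obtain ⟨M, hM, hQM, hΔM⟩ := Lib.Dim.Local.exists_isMaximal_ge_notMem k Q hΔ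
  obtain ⟨v, rfl⟩ := (MvPolynomial.isMaximal_iff_eq_vanishingIdeal_singleton (K := k)).1 hM
  set gs : Finset (MvPolynomial ι k ⧸ Q) :=
    Finset.univ.image fun l => Ideal.Quotient.mk Q (ψ l - C (eval v (ψ l)))
  set M := MvPolynomial.vanishingIdeal k ({v} : Set (ι → k))
  have hMker : RingHom.ker (Ideal.Quotient.mk Q) ≤ M := by rw [Ideal.mk_ker]; exact hQM
  set M' := M.map (Ideal.Quotient.mk Q)
  have hM' : M'.IsMaximal := (Ideal.map_eq_top_or_isMaximal_of_surjective _
    Ideal.Quotient.mk_surjective hM).resolve_left fun htop => hM.ne_top <| by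
      rw [← sup_eq_left.2 hMker, RingHom.ker_eq_comap_bot,
        ← Ideal.comap_map_of_surjective _ Ideal.Quotient.mk_surjective M,
        show M.map (Ideal.Quotient.mk Q) = ⊤ from htop, Ideal.comap_top]
  have hmin : M' ∈ (Ideal.span (gs : Set (MvPolynomial ι k ⧸ Q))).minimalPrimes := by
    refine ⟨⟨hM'.isPrime, Ideal.span_le.2 fun x hx => ?_⟩, fun P' hP' hle => ?_⟩
    · simp only [gs, Finset.coe_image, Finset.coe_univ, Set.image_univ, Set.mem_range] at hx
      obtain ⟨l, rfl⟩ := hx
      refine Ideal.mem_map_of_mem _ ?_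
      rw [MvPolynomial.mem_vanishingIdeal_singleton_iff, aeval_eq_eval]
      simp
    obtain ⟨hPp, hPg⟩ := hP'
    set P := P'.comap (Ideal.Quotient.mk Q)
    have hQP : Q ≤ P := fun q hq => by
      rw [Ideal.mem_comap, Ideal.Quotient.eq_zero_iff_mem.2 hq]; exact P'.zero_mem
    have hPM : P ≤ M := by
      have := Ideal.comap_mono (f := Ideal.Quotient.mk Q) hle
      rwa [Ideal.comap_map_of_surjective _ Ideal.Quotient.mk_surjective, ← RingHom.ker_eq_comap_bot,
        sup_eq_left.2 hMker] at this
    have hPψ : ∀ l, ψ l - C (eval v (ψ l)) ∈ P := fun l =>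
      Ideal.mem_comap.2 (hPg (Ideal.subset_span (by simp [gs])))
    by_contra hne
    have hlt : P < M := lt_of_le_of_ne hPM fun he => hne (by
      rw [← Ideal.map_comap_of_surjective _ Ideal.Quotient.mk_surjective P']
      exact (congrArg (Ideal.map (Ideal.Quotient.mk Q)) he).symm.le)
    have hΔP : Δ ∉ P := fun hc => hΔM (hPM hc)
    -- finitely many maximal ideals over `P` avoiding `Δ`
    let Xs := (h v).toFinset
    have hpick : ∀ x : Xs, ∃ g, g ∈ MvPolynomial.vanishingIdeal k ({x.1} : Set (ι → k)) ∧ g ∉ P :=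
      fun x => by
        by_contra hc
        push Not at hc
        have hxM : (MvPolynomial.vanishingIdeal k ({x.1} : Set (ι → k))).IsMaximal :=
          (MvPolynomial.isMaximal_iff_eq_vanishingIdeal_singleton (K := k)).2 ⟨x.1, rfl⟩
        have h1 : MvPolynomial.vanishingIdeal k ({x.1} : Set (ι → k)) = P :=
          hxM.eq_of_le (hlt.trans_le le_top).ne hc
        exact hlt.ne ((h1 ▸ hxM).eq_of_le hM.ne_top hPM)
    choose g hg hgP using hpick
    have hPp' : P.IsPrime := Ideal.comap_isPrime _ _
    have hprod : Δ * ∏ x, g x ∉ P := fun hc => by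
      rcases hPp'.mem_or_mem hc with h1 | h1
      · exact hΔP h1
      · obtain ⟨x, -, hx⟩ := hPp'.prod_mem_iff.1 h1
        exact hgP x hx
    obtain ⟨M2, hM2, hPM2, hn⟩ := Lib.Dim.Local.exists_isMaximal_ge_notMem k P hprod
    obtain ⟨x, rfl⟩ := (MvPolynomial.isMaximal_iff_eq_vanishingIdeal_singleton (K := k)).1 hM2
    simp only [MvPolynomial.mem_vanishingIdeal_singleton_iff, aeval_eq_eval, map_mul,
      map_prod, mul_eq_zero, not_or] at hn
    have hxX : x ∈ Xs := (h v).mem_toFinset.2 ⟨fun q hq => by
        have := hPM2 (hQP hq)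
        simpa [MvPolynomial.mem_vanishingIdeal_singleton_iff] using this, hn.1, fun l => by
        have := hPM2 (hPψ l)
        simpa [MvPolynomial.mem_vanishingIdeal_singleton_iff, sub_eq_zero] using this⟩
    have := hg ⟨x, hxX⟩
    simp only [MvPolynomial.mem_vanishingIdeal_singleton_iff, aeval_eq_eval] at this
    exact hn.2 (Finset.prod_eq_zero (Finset.mem_univ ⟨x, hxX⟩) this)
  have h1 := Ideal.height_le_card_of_mem_minimalPrimes_span_finset hmin
  rw [Lib.Dim.Local.height_maximal k M'] at h1
  have h2 : gs.card ≤ t := by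
    refine Finset.card_image_le.trans ?_
    simp
  exact le_trans (by exact_mod_cast h1) h2

end Groth.Agent.Lib.PolyFun45.Crit
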