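import Groth.Agent.Lib.PolyFun45.Forms
import Mathlib.LinearAlgebra.Matrix.Block
import Mathlib.LinearAlgebra.Basis.Basic
import Mathlib.LinearAlgebra.Projection
import Mathlib.RingTheory.MvPolynomial.EulerIdentity

/-!
# General hypersurfaces containing a linear subspace are smooth

* `exists_avoid_linear`: linear conditions with a unimodular pivot block, more of them than
  parameters, are avoided by a general vector;
* `exists_avoid_sing`: general forms without monomials in a coordinate subspace are smooth;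
* `exists_frame`: a basis adapted to a subspace.
-/

set_option autoImplicit false

universe u

open MvPolynomial

namespace Groth.Agent.Lib.PolyFun45.Sing

open Groth.Agent.H83.LineExist (Idx form coeff_form form_coeff form_isHomogeneous derivative_aeval)

variable {k : Type u} [Field k]

/-- Linear conditions with a unimodular block, more of them than parameters. -/
theorem exists_avoid_linear {σ L ι : Type} [Fintype σ] [Fintype L] [Fintype ι] [DecidableEq L]
    (A : L → ι → MvPolynomial σ k) (π : L → ι) (hπ : Function.Injective π)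
    (hdet : IsUnit (Matrix.det (Matrix.of fun l l' => A l (π l'))))
    (hcard : Fintype.card σ < Fintype.card L) :
    ∃ g : MvPolynomial ι k, g ≠ 0 ∧ ∀ (v : σ → k) (c : ι → k),
      (∀ l, ∑ e, eval v (A l e) * c e = 0) → eval c g = 0 := by
  classical
  let R := {e : ι // e ∉ Set.range π}
  let M : Matrix L L (MvPolynomial σ k) := Matrix.of fun l l' => A l (π l')
  let rhs : L → MvPolynomial (σ ⊕ R) k := fun l => ∑ e : R, rename Sum.inl (A l e.1) * X (.inr e)
  let Minv : L → L → MvPolynomial (σ ⊕ R) k := fun l l' => rename Sum.inl (M⁻¹ l l')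
  let P : ι → MvPolynomial (σ ⊕ R) k := fun e =>
    if h : e ∈ Set.range π then - ∑ l, Minv h.choose l * rhs l else X (.inr ⟨e, h⟩)
  have hc : Nat.card (σ ⊕ R) < Nat.card ι := by
    have h1 := Fintype.card_congr (Equiv.sumCompl fun e : ι => e ∈ Set.range π)
    rw [Fintype.card_sum, ← Fintype.card_congr (Equiv.ofInjective π hπ)] at h1
    have h2 : Fintype.card R = Fintype.card {e : ι // ¬ e ∈ Set.range π} :=
      Fintype.card_congr (Equiv.refl _)
    simp only [Nat.card_eq_fintype_card, Fintype.card_sum]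
    omega
  obtain ⟨g, hg0, hg⟩ := Basic.exists_vanish hc P
  refine ⟨g, hg0, fun v c h => ?_⟩
  let t : σ ⊕ R → k := Sum.elim v fun e => c e.1
  have hren : ∀ q : MvPolynomial σ k, eval t (rename Sum.inl q) = eval v q := fun q => by
    rw [eval_rename]; rfl
  have hP : ∀ e, eval t (P e) = c e := by
    intro e
    by_cases he : e ∈ Set.range π
    swap
    · rw [show P e = X (.inr ⟨e, he⟩) from dif_neg he]; simp [t]
    simp only [P, dif_pos he]
    have hr : ∀ l, eval t (rhs l) = - ∑ l', eval v (M l l') * c (π l') := fun l => by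
      have hsplit := h l
      rw [← Fintype.sum_subtype_add_sum_subtype (fun e => e ∈ Set.range π)] at hsplit
      have h2 : ∀ (F : ι → k) [Fintype {e // e ∈ Set.range π}],
          ∑ i : {e // e ∈ Set.range π}, F i.1 = ∑ l', F (π l') := fun F _ =>
        (Fintype.sum_equiv (Equiv.ofInjective π hπ) _ _ fun _ => rfl).symm
      rw [@h2 (fun e => eval v (A l e) * c e) (_)] at hsplit
      simp only [rhs, map_sum, map_mul, hren, eval_X, t, Sum.elim_inr]
      exact eq_neg_of_add_eq_zero_right hsplit
    rw [map_neg, map_sum]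
    simp only [map_mul, Minv, hren, hr, mul_neg, Finset.sum_neg_distrib, neg_neg, Finset.mul_sum]
    rw [Finset.sum_comm]
    simp only [← mul_assoc, ← Finset.sum_mul, ← map_mul, ← map_sum]
    have hinv : M⁻¹ * M = 1 := Matrix.nonsing_inv_mul _ hdet
    have hentry : ∀ l', ∑ l, M⁻¹ he.choose l * M l l' = if he.choose = l' then 1 else 0 := fun l' => by
      have := congrFun (congrFun hinv he.choose) l'
      rwa [Matrix.mul_apply, Matrix.one_apply] at this
    simp only [hentry, apply_ite (eval v), map_one, map_zero, ite_mul, one_mul, zero_mul,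
      Finset.sum_ite_eq, Finset.mem_univ, if_true]
    rw [he.choose_spec]
  have h0 := Basic.eval_comp P g t
  rw [hg, map_zero, funext hP] at h0
  exact h0.symm

variable {n d : ℕ}

/-- The exponent `d • single i`. -/
noncomputable def pureIdx (i : Fin (n + 1)) : Idx n d :=
  ⟨Finsupp.single i d, Finsupp.degree_single _ _⟩

/-- The exponent of `X r ^ (d - 1) * X i`. -/
noncomputable def mixIdx (hd : 1 ≤ d) (r i : Fin (n + 1)) : Idx n d :=
  ⟨Finsupp.single r (d - 1) + Finsupp.single i 1, by
    rw [map_add, Finsupp.degree_single, Finsupp.degree_single]; omega⟩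

/-- The exponent is supported on `S`. -/
def In (S : Finset (Fin (n + 1))) (e : Idx n d) : Prop := ∀ i ∉ S, e.1 i = 0

/-- A chart point. -/
noncomputable def pt (r : Fin (n + 1)) {T : Finset (Fin (n + 1))} (v : {i // i ∈ T} → k)
    (i : Fin (n + 1)) : k :=
  if h : i ∈ T then v ⟨i, h⟩ else if i = r then 1 else 0

theorem eval_monomial_pt (r : Fin (n + 1)) (T : Finset (Fin (n + 1))) (v : {i // i ∈ T} → k)
    (p : MvPolynomial (Fin (n + 1)) k) :
    eval v (aeval (fun i => if h : i ∈ T then (X ⟨i, h⟩ : MvPolynomial {i // i ∈ T} k)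
      else if i = r then 1 else 0) p) = eval (pt r v) p := by
  rw [Basic.eval_comp]
  refine congrArg (fun f => eval f p) (funext fun i => ?_)
  by_cases h : i ∈ T
  · simp [pt, h]
  · by_cases h2 : i = r
    · subst h2; simp [pt, h]
    · simp [pt, h, h2]

theorem pderiv_form (i : Fin (n + 1)) (p : MvPolynomial (Fin (n + 1)) k) (c : k)
    (e : Fin (n + 1) →₀ ℕ) (x : Fin (n + 1) → k) (h : p = monomial e c) :
    eval x (pderiv i p) = c * eval x (pderiv i (monomial e 1)) := by
  subst h
  rw [pderiv_monomial, pderiv_monomial, eval_monomial, eval_monomial]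
  ring

/-- A general form without monomials supported in `S` is smooth. -/
theorem exists_avoid_sing [Infinite k] (hd : 2 ≤ d) (S : Finset (Fin (n + 1)))
    (hS : 2 * S.card ≤ n + 1) :
    ∃ g : MvPolynomial {e : Idx n d // ¬ In S e} k, g ≠ 0 ∧
      ∀ c : Idx n d → k, (∀ e, In S e → c e = 0) →
      ∀ x : Fin (n + 1) → k, x ≠ 0 → eval x (form c) = 0 →
        (∀ i, eval x (pderiv i (form c)) = 0) → eval (fun e => c e.1) g = 0 := by
  classical
  let ι := {e : Idx n d // ¬ In S e}
  have hev : ∀ (c : Idx n d → k), (∀ e, In S e → c e = 0) →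
      ∀ (f : Idx n d → k), ∑ e : ι, f e.1 * c e.1 = ∑ e, f e * c e := fun c hc f => by
    rw [← Fintype.sum_subtype_add_sum_subtype (fun e => ¬ In S e) (f := fun e => f e * c e)]
    rw [add_eq_left.2 ?_]
    exact Finset.sum_eq_zero fun e _ => by rw [hc e.1 (not_not.1 e.2), mul_zero]
  have hpd : ∀ (c : Idx n d → k) (x : Fin (n + 1) → k) (i : Fin (n + 1)),
      eval x (pderiv i (form c)) = ∑ e, eval x (pderiv i (monomial e.1 1)) * c e := fun c x i => by
    rw [form, map_sum, map_sum]
    exact Finset.sum_congr rfl fun e _ => (pderiv_form i _ _ e.1 x rfl).trans (mul_comm _ _)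
  have hval : ∀ (c : Idx n d → k) (x : Fin (n + 1) → k),
      eval x (form c) = ∑ e, eval x (monomial e.1 1) * c e := fun c x => by
    rw [form, map_sum]
    exact Finset.sum_congr rfl fun e _ => by rw [eval_monomial, eval_monomial]; ring
  let sub : ∀ (r : Fin (n + 1)) (T : Finset (Fin (n + 1))),
      MvPolynomial (Fin (n + 1)) k →ₐ[k] MvPolynomial {i // i ∈ T} k := fun r T =>
    aeval fun i => if h : i ∈ T then X ⟨i, h⟩ else if i = r then 1 else 0
  -- exponents
  have hmix_r : ∀ {r i : Fin (n + 1)}, i ≠ r → (mixIdx (d := d) (by omega) r i).1 r = d - 1 := fun h => by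
    simp [mixIdx, Finsupp.single_eq_of_ne (Ne.symm h)]
  have hmix_i : ∀ {r i : Fin (n + 1)}, i ≠ r → (mixIdx (d := d) (by omega) r i).1 i = 1 := fun h => by
    simp [mixIdx, Finsupp.single_eq_of_ne h]
  have hmix_inj : ∀ {r i j : Fin (n + 1)}, i ≠ r → j ≠ r →
      mixIdx (d := d) (by omega) r i = mixIdx (d := d) (by omega) r j → i = j := by
    intro r i j hi hj h
    by_contra hne
    have h2 := congrArg (fun e : Idx n d => e.1 i) h
    simp only [hmix_i hi] at h2
    simp [mixIdx, Finsupp.single_eq_of_ne hi, Finsupp.single_eq_of_ne hne] at h2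
  -- the entries of the pivot block
  have hpv : ∀ (r : Fin (n + 1)) (T : Finset (Fin (n + 1))), r ∉ T → ∀ i j, i ≠ r → j ≠ r →
      sub r T (pderiv i (monomial (mixIdx (d := d) (by omega) r j).1 1)) =
        if i = j then 1 else 0 := by
    intro r T hrT i j hi hj
    rw [pderiv_monomial, one_mul]
    by_cases hij : i = j
    · subst hij
      rw [hmix_i hi, if_pos rfl, Nat.cast_one,
        show (mixIdx (d := d) (by omega) r i).1 - Finsupp.single i 1 = Finsupp.single r (d - 1) from
          add_tsub_cancel_right _ _]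
      simp only [sub, aeval_monomial, map_one, one_mul]
      rw [Finsupp.prod_single_index] <;> simp [hrT]
    · rw [if_neg hij, show (mixIdx (d := d) (by omega) r j).1 i = 0 by
        simp [mixIdx, Finsupp.single_eq_of_ne hi, Finsupp.single_eq_of_ne hij]]
      simp
  have hsubv : ∀ r T (v : {i // i ∈ T} → k) p, eval v (sub r T p) = eval (pt r v) p :=
    fun r T v p => eval_monomial_pt r T v p
  -- case off the subspace
  have hA : ∀ r : {r : Fin (n + 1) // r ∉ S}, ∃ g : MvPolynomial ι k, g ≠ 0 ∧
      ∀ c : Idx n d → k, (∀ e, In S e → c e = 0) → ∀ v : {i // i ∈ Finset.univ.erase r.1} → k,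
        eval (pt r.1 v) (form c) = 0 → (∀ i, eval (pt r.1 v) (pderiv i (form c)) = 0) →
        eval (fun e => c e.1) g = 0 := by
    rintro ⟨r, hr⟩
    let T := Finset.univ.erase r
    have hrT : r ∉ T := Finset.notMem_erase r _
    let A : Unit ⊕ {i // i ∈ T} → ι → MvPolynomial {i // i ∈ T} k := fun l e =>
      Sum.elim (fun _ => sub r T (monomial e.1.1 1)) (fun i => sub r T (pderiv i.1 (monomial e.1.1 1))) l
    have h0 : ∀ {e : Idx n d}, e.1 r ≠ 0 → ¬ In S e := fun h hin => h (hin r hr)
    have hne : ∀ i : {i // i ∈ T}, i.1 ≠ r := fun i => (Finset.mem_erase.1 i.2).1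
    let π : Unit ⊕ {i // i ∈ T} → ι := Sum.elim
      (fun _ => ⟨pureIdx r, h0 (by simp [pureIdx]; omega)⟩)
      (fun i => ⟨mixIdx (by omega) r i.1, h0 (by rw [hmix_r (hne i)]; omega)⟩)
    have hπ : Function.Injective π := by
      rintro (_ | i) (_ | j) h <;> replace h := congrArg Subtype.val h
      · rfl
      · have := congrArg (fun e : Idx n d => e.1 r) h
        simp only [π, Sum.elim_inl, Sum.elim_inr, hmix_r (hne j), pureIdx, Finsupp.single_eq_same] at this
        omega
      · have := congrArg (fun e : Idx n d => e.1 r) h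
        simp only [π, Sum.elim_inl, Sum.elim_inr, hmix_r (hne i), pureIdx, Finsupp.single_eq_same] at this
        omega
      · exact congrArg Sum.inr (Subtype.ext (hmix_inj (hne i) (hne j) h))
    set M := Matrix.of fun l l' => A l (π l')
    have h11 : M.toBlocks₁₁ = 1 := Matrix.ext fun i j => by
      simp only [Matrix.toBlocks₁₁, M, Matrix.of_apply, A, π, Sum.elim_inl, Matrix.one_apply,
        Subsingleton.elim i j, if_true]
      simp only [sub, pureIdx, aeval_monomial, map_one, one_mul]
      rw [Finsupp.prod_single_index] <;> simp [T]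
    have h22 : M.toBlocks₂₂ = 1 := Matrix.ext fun i j => by
      simp only [Matrix.toBlocks₂₂, M, Matrix.of_apply, A, π, Sum.elim_inr, Matrix.one_apply,
        hpv r T hrT i.1 j.1 (hne i) (hne j), ← Subtype.ext_iff]
    have h21 : M.toBlocks₂₁ = 0 := Matrix.ext fun i j => by
      simp only [Matrix.toBlocks₂₁, M, Matrix.of_apply, A, π, Sum.elim_inl, Sum.elim_inr,
        Matrix.zero_apply, pureIdx, pderiv_monomial, Finsupp.single_eq_of_ne (hne i)]
      simp
    have hdet : IsUnit M.det := by
      rw [← Matrix.fromBlocks_toBlocks M, h21, Matrix.det_fromBlocks_zero₂₁, h11, h22]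
      simp
    obtain ⟨g, hg0, hg⟩ := exists_avoid_linear A π hπ hdet (by simp [Fintype.card_sum])
    refine ⟨g, hg0, fun c hc v h0v hd0 => hg v (fun e => c e.1) fun l => ?_⟩
    rcases l with _ | i
    · simp only [A, Sum.elim_inl]
      rw [Finset.sum_congr rfl fun e _ => congrArg (· * _) (hsubv r T v _)]
      rw [hev c hc fun e => eval (pt r v) (monomial e.1 1), ← hval, h0v]
    · simp only [A, Sum.elim_inr]
      rw [Finset.sum_congr rfl fun e _ => congrArg (· * _) (hsubv r T v _)]
      rw [hev c hc fun e => eval (pt r v) (pderiv i.1 (monomial e.1 1)), ← hpd, hd0]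
  -- case on the subspace
  have hB : ∀ r : {r : Fin (n + 1) // r ∈ S}, ∃ g : MvPolynomial ι k, g ≠ 0 ∧
      ∀ c : Idx n d → k, (∀ e, In S e → c e = 0) → ∀ v : {i // i ∈ S.erase r.1} → k,
        (∀ i, eval (pt r.1 v) (pderiv i (form c)) = 0) → eval (fun e => c e.1) g = 0 := by
    rintro ⟨r, hr⟩
    let T := S.erase r
    have hrT : r ∉ T := Finset.notMem_erase r _
    let A : {i // i ∈ Sᶜ} → ι → MvPolynomial {i // i ∈ T} k := fun i e =>
      sub r T (pderiv i.1 (monomial e.1.1 1))
    have hne : ∀ i : {i // i ∈ Sᶜ}, i.1 ≠ r := fun i h => Finset.mem_compl.1 i.2 (h ▸ hr)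
    let π : {i // i ∈ Sᶜ} → ι := fun i => ⟨mixIdx (by omega) r i.1, fun hin => by
      have := hin i.1 (Finset.mem_compl.1 i.2)
      rw [hmix_i (hne i)] at this
      omega⟩
    have hπ : Function.Injective π := fun i j h =>
      Subtype.ext (hmix_inj (hne i) (hne j) (congrArg Subtype.val h))
    have hdet : IsUnit (Matrix.det (Matrix.of fun l l' => A l (π l'))) := by
      rw [show Matrix.of (fun l l' => A l (π l')) = 1 from ?_]
      · simp
      refine Matrix.ext fun i j => ?_
      simp only [Matrix.of_apply, A, π, Matrix.one_apply, hpv r T hrT i.1 j.1 (hne i) (hne j),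
        ← Subtype.ext_iff]
    obtain ⟨g, hg0, hg⟩ := exists_avoid_linear A π hπ hdet (by
      simp only [Fintype.card_coe, T, Finset.card_erase_of_mem hr, Finset.card_compl, Fintype.card_fin]
      have := Finset.card_pos.2 ⟨r, hr⟩
      omega)
    refine ⟨g, hg0, fun c hc v hd0 => hg v (fun e => c e.1) fun i => ?_⟩
    simp only [A]
    rw [Finset.sum_congr rfl fun e _ => congrArg (· * _) (hsubv r T v _)]
    rw [hev c hc fun e => eval (pt r v) (pderiv i.1 (monomial e.1 1)), ← hpd, hd0]
  choose gA hgA0 hgA using hA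
  choose gB hgB0 hgB using hB
  refine ⟨(∏ r, gA r) * ∏ r, gB r, mul_ne_zero (Finset.prod_ne_zero_iff.2 fun r _ => hgA0 r)
    (Finset.prod_ne_zero_iff.2 fun r _ => hgB0 r), fun c hc x hx h0 hd0 => ?_⟩
  have hscale : ∀ (r : Fin (n + 1)) (T : Finset (Fin (n + 1))), r ∉ T →
      (∀ i, i ∉ T → i ≠ r → x i = 0) → x r ≠ 0 →
      pt r (fun i : {i // i ∈ T} => (x r)⁻¹ * x i.1) = fun i => (x r)⁻¹ * x i := by
    intro r T hrT hz hr
    funext i
    by_cases h : i ∈ T
    · simp [pt, h]
    · by_cases h2 : i = r
      · subst h2; simp [pt, h, hr]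
      · simp [pt, h, h2, hz i h h2]
  have hhom : ∀ (F : MvPolynomial (Fin (n + 1)) k) (D : ℕ), F.IsHomogeneous D → eval x F = 0 →
      ∀ a : k, eval (fun i => a * x i) F = 0 := by
    intro F D hF hF0 a
    rw [eval_eq']
    have h1 : ∀ e ∈ F.support, coeff e F * ∏ i, (a * x i) ^ e i =
        a ^ D * (coeff e F * ∏ i, x i ^ e i) := fun e he => by
      have hdeg : e.degree = D := by
        by_contra h
        exact mem_support_iff.1 he (hF.coeff_eq_zero h)
      simp only [mul_pow, Finset.prod_mul_distrib]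
      rw [Finset.prod_pow_eq_pow_sum, ← Finsupp.degree_eq_sum, hdeg]
      ring
    rw [Finset.sum_congr rfl h1, ← Finset.mul_sum, ← eval_eq', hF0, mul_zero]
  have hdhom : ∀ i, (pderiv i (form c)).IsHomogeneous (d - 1) := fun i =>
    (form_isHomogeneous c).pderiv
  rw [map_mul, map_prod, map_prod]
  by_cases hout : ∃ r, r ∉ S ∧ x r ≠ 0
  · obtain ⟨r, hrS, hr⟩ := hout
    refine mul_eq_zero_of_left (Finset.prod_eq_zero (Finset.mem_univ (⟨r, hrS⟩ : {r // r ∉ S})) ?_) _
    have hs := hscale r (Finset.univ.erase r) (Finset.notMem_erase r _)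
      (fun i hi hir => absurd (Finset.mem_erase.2 ⟨hir, Finset.mem_univ _⟩) hi) hr
    refine hgA ⟨r, hrS⟩ c hc (fun i => (x r)⁻¹ * x i.1) ?_ fun i => ?_
    · rw [hs]; exact hhom _ d (form_isHomogeneous c) h0 _
    · rw [hs]; exact hhom _ _ (hdhom i) (hd0 i) _
  · push Not at hout
    obtain ⟨r, hr⟩ := Function.ne_iff.1 hx
    have hrS : r ∈ S := by
      by_contra h
      exact hr (hout r h)
    refine mul_eq_zero_of_right _ (Finset.prod_eq_zero (Finset.mem_univ (⟨r, hrS⟩ : {r // r ∈ S})) ?_)
    have hs := hscale r (S.erase r) (Finset.notMem_erase r _) (fun i hi hir => hout i fun hiS =>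
      hi (Finset.mem_erase.2 ⟨hir, hiS⟩)) hr
    refine hgB ⟨r, hrS⟩ c hc (fun i => (x r)⁻¹ * x i.1) fun i => ?_
    rw [hs]; exact hhom _ _ (hdhom i) (hd0 i) _

/-- A frame adapted to a subspace. -/
theorem exists_frame (U : Submodule k (Fin (n + 1) → k)) :
    ∃ (S : Finset (Fin (n + 1))) (A : (Fin (n + 1) → k) ≃ₗ[k] (Fin (n + 1) → k)),
      S.card = Module.finrank k U ∧ ∀ y, A y ∈ U ↔ ∀ i ∉ S, y i = 0 := by
  classical
  obtain ⟨U', hU'⟩ := Submodule.exists_isCompl U
  let b := ((Module.finBasis k U).prod (Module.finBasis k U')).map (U.prodEquivOfIsCompl U' hU')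
  let e : Fin (Module.finrank k U) ⊕ Fin (Module.finrank k U') ≃ Fin (n + 1) :=
    b.indexEquiv (Pi.basisFun k (Fin (n + 1)))
  let B := b.reindex e
  refine ⟨Finset.univ.image fun a => e (.inl a), B.equivFun.symm, ?_, fun y => ?_⟩
  · rw [Finset.card_image_of_injective _ fun a a' h => by simpa using e.injective h]
    simp
  have hB : B.equivFun.symm y = ((∑ a, y (e (.inl a)) • Module.finBasis k U a : U) : Fin (n + 1) → k) +
      ((∑ a, y (e (.inr a)) • Module.finBasis k U' a : U') : Fin (n + 1) → k) := by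
    rw [Module.Basis.equivFun_symm_apply, ← e.sum_comp, Fintype.sum_sum_type]
    simp [B, b]
  rw [hB, Submodule.add_mem_iff_right _ (Subtype.prop _)]
  constructor
  · intro h i hi
    obtain ⟨(a | a), rfl⟩ := e.surjective i
    · exact absurd (Finset.mem_image.2 ⟨a, Finset.mem_univ _, rfl⟩) hi
    · have h0 : (∑ a, y (e (.inr a)) • Module.finBasis k U' a : U') = 0 :=
        Subtype.ext (Submodule.disjoint_def.1 hU'.disjoint _ h (Subtype.prop _))
      exact Fintype.linearIndependent_iff.1 (Module.finBasis k U').linearIndependent _ h0 a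
  · intro h
    rw [Finset.sum_eq_zero fun a _ => by rw [h (e (.inr a)) (by simp), zero_smul]]
    exact U.zero_mem

/-- Substitution by a linear map. -/
noncomputable def subst (A : (Fin (n + 1) → k) →ₗ[k] (Fin (n + 1) → k)) :
    MvPolynomial (Fin (n + 1)) k →ₐ[k] MvPolynomial (Fin (n + 1)) k :=
  aeval fun j => ∑ i, C (A (Pi.single i 1) j) * X i

theorem eval_subst (A : (Fin (n + 1) → k) →ₗ[k] (Fin (n + 1) → k))
    (F : MvPolynomial (Fin (n + 1)) k) (y : Fin (n + 1) → k) : eval y (subst A F) = eval (A y) F := by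
  rw [subst, Basic.eval_comp]
  refine congrArg (fun f => eval f F) (funext fun j => ?_)
  conv_rhs => rw [show y = ∑ i, y i • Pi.single (M := fun _ => k) i 1 by funext l; simp [Pi.single_apply]]
  simp [map_sum, Finset.sum_apply, mul_comm]

theorem subst_isHomogeneous (A : (Fin (n + 1) → k) →ₗ[k] (Fin (n + 1) → k))
    {F : MvPolynomial (Fin (n + 1)) k} (hF : F.IsHomogeneous d) : (subst A F).IsHomogeneous d := by
  have := hF.aeval (fun j => ∑ i, C (A (Pi.single i 1) j) * X i) (n := 1) fun j =>
    IsHomogeneous.sum _ _ _ fun i _ => isHomogeneous_C_mul_X _ i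
  rwa [one_mul] at this

theorem pderiv_subst (A : (Fin (n + 1) → k) →ₗ[k] (Fin (n + 1) → k))
    (F : MvPolynomial (Fin (n + 1)) k) (i : Fin (n + 1)) :
    pderiv i (subst A F) = ∑ j, C (A (Pi.single i 1) j) * subst A (pderiv j F) := by
  classical
  induction F using MvPolynomial.induction_on with
  | C a => simp [subst]
  | add p q hp hq => simp only [map_add, mul_add, Finset.sum_add_distrib, hp, hq]
  | mul_X p l hp =>
    have hX : pderiv i (subst A (X l)) = C (A (Pi.single i 1) l) := by
      simp [subst, map_sum, pderiv_mul, Pi.single_apply]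
    have hr : ∀ j, C (A (Pi.single i 1) j) * subst A (pderiv j (p * X l)) =
        C (A (Pi.single i 1) j) * subst A (pderiv j p) * subst A (X l) +
          (if j = l then C (A (Pi.single i 1) l) * subst A p else 0) := by
      intro j
      rw [pderiv_mul, pderiv_X, Pi.single_apply, map_add, map_mul, map_mul]
      split_ifs with h h' h'
      · subst h; simp; ring
      · exact absurd h.symm h'
      · exact absurd h'.symm h
      · simp; ring
    rw [map_mul, pderiv_mul, hp, hX, Finset.sum_mul, Finset.sum_congr rfl fun j _ => hr j,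
      Finset.sum_add_distrib, Finset.sum_ite_eq' _ l, if_pos (Finset.mem_univ l), mul_comm (subst A p)]

end Groth.Agent.Lib.PolyFun45.Sing
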