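import Groth.Prelude.Def_W4c2ratcurvhypCodim
import Mathlib.RingTheory.Ideal.Height
import Mathlib.Algebra.MvPolynomial.Funext
import Mathlib.RingTheory.AlgebraicIndependent.TranscendenceBasis

/-!
# Polynomial functions on a finite dimensional vector space

* `polyEquiv`: they form a polynomial ring in any linear coordinates;
* `isGeneric_of`, `codimGE_of`: criteria for `LefPen.IsGeneric`, `LefPen.CodimGE`;
* `exists_vanish`: the image of a polynomial map from a smaller affine space is not dense;
* `exists_finite_fibre`: a polynomial map from an affine space to one of at least the same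
  dimension has finite fibres over a dense open set.
-/

set_option autoImplicit false

universe u

open MvPolynomial

namespace Groth.Agent.Lib.PolyFun45.Basic

variable {k : Type u} [Field k] {V : Type u} [AddCommGroup V] [Module k V] {ι : Type}
  (φ : V ≃ₗ[k] (ι → k))

/-- A polynomial in the coordinates as a function. -/
noncomputable def evalHom : MvPolynomial ι k →ₐ[k] (V → k) := aeval fun i v => φ v i

theorem evalHom_apply (p : MvPolynomial ι k) (v : V) : evalHom φ p v = eval (φ v) p := by
  rw [evalHom]
  induction p using MvPolynomial.induction_on with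
  | C a => simp
  | add p q hp hq => simp [hp, hq]
  | mul_X p i hp => simp [hp]

theorem range_evalHom [Finite ι] : (evalHom φ).range = LefPen.polyFunAlg k V := by
  classical
  have := Fintype.ofFinite ι
  rw [evalHom, ← Algebra.adjoin_range_eq_range_aeval]
  refine le_antisymm (Algebra.adjoin_mono ?_) (Algebra.adjoin_le ?_)
  · rintro _ ⟨i, rfl⟩
    exact ⟨(LinearMap.proj i).comp φ.toLinearMap, rfl⟩
  · rintro _ ⟨l, rfl⟩
    rw [SetLike.mem_coe]
    have h : (l : V → k) = ∑ i, l (φ.symm (Pi.single i 1)) • fun v => φ v i := by
      funext v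
      have hv : v = ∑ i, φ v i • φ.symm (Pi.single i 1) := by
        apply φ.injective
        rw [map_sum]
        funext j
        simp [Pi.single_apply]
      conv_lhs => rw [hv]
      simp [map_sum, mul_comm]
    change (l : V → k) ∈ _
    rw [h]
    exact Subalgebra.sum_mem _ fun i _ =>
      Subalgebra.smul_mem _ (Algebra.subset_adjoin (Set.mem_range_self (f := fun i v => φ v i) i)) _

theorem isPolyFun_eval [Finite ι] (p : MvPolynomial ι k) :
    LefPen.IsPolyFun k fun v => eval (φ v) p := by
  rw [← funext (evalHom_apply φ p)]
  exact (range_evalHom φ).le (AlgHom.mem_range_self _ _)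

theorem evalHom_injective [Infinite k] : Function.Injective (evalHom φ) := by
  intro p q h
  refine MvPolynomial.funext fun x => ?_
  have := congrFun h (φ.symm x)
  simpa [evalHom_apply] using this

/-- Polynomial functions form a polynomial ring. -/
noncomputable def polyEquiv [Finite ι] [Infinite k] :
    MvPolynomial ι k ≃ₐ[k] LefPen.polyFunAlg k V :=
  (AlgEquiv.ofInjective (evalHom φ) (evalHom_injective φ)).trans
    (Subalgebra.equivOfEq _ _ (range_evalHom φ))

theorem polyEquiv_apply [Finite ι] [Infinite k] (p : MvPolynomial ι k) (v : V) :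
    (polyEquiv φ p).1 v = eval (φ v) p := evalHom_apply φ p v

theorem isGeneric_of [Finite ι] [Infinite k] {S : Set V} {p : MvPolynomial ι k} (hp : p ≠ 0)
    (h : ∀ v, eval (φ v) p ≠ 0 → v ∈ S) : LefPen.IsGeneric k S := by
  refine ⟨fun v => eval (φ v) p, isPolyFun_eval φ p, ?_, h⟩
  by_contra hc
  push Not at hc
  exact hp (MvPolynomial.funext fun x => by simpa using hc (φ.symm x))

/-- `CodimGE` through primes of the polynomial ring. -/
theorem codimGE_of [Finite ι] [Infinite k] {D : Set V} {c : ℕ}
    (h : ∀ Q : Ideal (MvPolynomial ι k), Q.IsPrime →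
      (∀ p : MvPolynomial ι k, (∀ v ∈ D, eval (φ v) p = 0) → p ∈ Q) → (c : ℕ∞) ≤ Q.height) :
    LefPen.CodimGE k D c := by
  rw [LefPen.CodimGE, Ideal.height_eq_inf_minimalPrimes]
  refine le_iInf₂ fun J hJ => ?_
  have : J.IsPrime := hJ.1.1
  have hQ := h (J.comap (polyEquiv φ).toRingEquiv) inferInstance fun p hp => hJ.1.2 fun v hv => by
    change (polyEquiv φ p).1 v = 0
    rw [polyEquiv_apply]
    exact hp v hv
  rw [(polyEquiv φ).toRingEquiv.height_comap J] at hQ
  exact hQ

/-- The image of an affine space under a polynomial map into a bigger one is not dense. -/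
theorem exists_vanish {σ : Type} [Finite σ] [Finite ι] (hc : Nat.card σ < Nat.card ι)
    (P : ι → MvPolynomial σ k) :
    ∃ g : MvPolynomial ι k, g ≠ 0 ∧ aeval P g = 0 := by
  by_contra hcon
  push Not at hcon
  have hind : AlgebraicIndependent k P := by
    rw [algebraicIndependent_iff]
    intro p hp
    by_contra h
    exact hcon p h hp
  have h := hind.lift_cardinalMk_le_trdeg
  have := Fintype.ofFinite σ
  have := Fintype.ofFinite ι
  rw [MvPolynomial.trdeg_of_isDomain] at h
  simp at h
  rw [Nat.card_eq_fintype_card, Nat.card_eq_fintype_card] at hc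
  omega

theorem eval_comp {σ : Type} (P : ι → MvPolynomial σ k) (g : MvPolynomial ι k) (t : σ → k) :
    eval t (aeval P g) = eval (fun i => eval t (P i)) g := by
  induction g using MvPolynomial.induction_on with
  | C a => simp
  | add p q hp hq => simp only [map_add, hp, hq]
  | mul_X p i hp => simp only [map_mul, aeval_X, eval_X, hp]

/-- Finite fibres over a dense open set. -/
theorem exists_finite_fibre {σ : Type} [Finite σ] [Finite ι] (hc : Nat.card σ ≤ Nat.card ι)
    (P : ι → MvPolynomial σ k) :
    ∃ g : MvPolynomial ι k, g ≠ 0 ∧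
      ∀ v : ι → k, eval v g ≠ 0 → {t : σ → k | ∀ i, eval t (P i) = v i}.Finite := by
  classical
  have := Fintype.ofFinite σ
  have hopt : Nat.card σ < Nat.card (Option ι) := by
    rw [Finite.card_option]; omega
  choose G hG0 hGz using fun j : σ => exists_vanish hopt
    (fun o : Option ι => o.elim (X j) P : Option ι → MvPolynomial σ k)
  let q : σ → Polynomial (MvPolynomial ι k) := fun j => optionEquivLeft k ι (G j)
  have hq : ∀ j, q j ≠ 0 := fun j => (map_ne_zero_iff _ (optionEquivLeft k ι).injective).2 (hG0 j)
  refine ⟨∏ j, (q j).leadingCoeff, Finset.prod_ne_zero_iff.2 fun j _ =>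
    Polynomial.leadingCoeff_ne_zero.2 (hq j), fun v hv => ?_⟩
  rw [map_prod] at hv
  have hqv : ∀ j, (q j).map (eval v) ≠ 0 := fun j h =>
    Finset.prod_ne_zero_iff.1 hv j (Finset.mem_univ j) (by
      have := congrArg (Polynomial.coeff · (q j).natDegree) h
      simpa using this)
  refine Set.Finite.subset (Set.Finite.pi fun j => ((q j).map (eval v)).roots.toFinset.finite_toSet)
    fun t ht => fun j _ => ?_
  simp only [Finset.mem_coe, Multiset.mem_toFinset, Polynomial.mem_roots (hqv j)]
  have key : ∀ F : MvPolynomial (Option ι) k,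
      ((optionEquivLeft k ι F).map (eval v)).eval (t j) =
        eval t (aeval (fun o : Option ι => o.elim (X j) P) F) := by
    intro F
    induction F using MvPolynomial.induction_on with
    | C a => simp
    | add p q hp hq => simp [hp, hq]
    | mul_X p o hp =>
      cases o with
      | none => simp [hp]
      | some i => simp [hp, ht i]
  rw [Polynomial.IsRoot, key, hGz, map_zero]

end Groth.Agent.Lib.PolyFun45.Basic
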