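import Groth.Agent.Lib.PolyFun45.Basic
import Groth.Agent.H83.Cubic.LineExist
import Mathlib.Data.Sym.Card
import Mathlib.Data.Finsupp.Multiset

/-!
# The space of forms, monomial counts and forms containing linear subspaces

* `coef`: coordinates on the space of forms;
* `card_idx`, `card_supp`: number of monomials;
* `subspace_param`: a form vanishing on a subspace is in the image of one of finitely many
  polynomial maps from an affine space of dimension `(m+1)(n-m) + dim forms - C(m+d,d)`.
-/

set_option autoImplicit false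

universe u

open MvPolynomial

namespace Groth.Agent.Lib.PolyFun45.Forms

open Groth.Agent.H83.LineExist (Idx form coeff_form form_coeff form_isHomogeneous)

variable {k : Type u} [Field k] {n d : ℕ}

/-- The coefficients of a form. -/
noncomputable def coef : LefPen.Form n k d ≃ₗ[k] (Idx n d → k) where
  toFun G e := coeff e.1 G.1
  map_add' G H := by funext e; simp
  map_smul' c G := by funext e; simp
  invFun c := ⟨form c, (mem_homogeneousSubmodule _ _).2 (form_isHomogeneous c)⟩
  left_inv G := Subtype.ext (form_coeff ((mem_homogeneousSubmodule _ _).1 G.2))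
  right_inv c := funext fun e => coeff_form c e

theorem form_coef (G : LefPen.Form n k d) : form (coef G) = G.1 :=
  form_coeff ((mem_homogeneousSubmodule _ _).1 G.2)

theorem finrank_forms : Module.finrank k (LefPen.Form n k d) = Nat.card (Idx n d) := by
  rw [coef.finrank_eq, Module.finrank_fintype_fun_eq_card, Nat.card_eq_fintype_card]

theorem card_idx : Nat.card (Idx n d) = (n + d).choose d := by
  classical
  rw [Nat.card_congr ((Equiv.subtypeEquivRight fun P => by
    rw [Finsupp.degree_eq_sum, Finsupp.sum_fintype _ _ (fun _ => rfl)]; rfl).trans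
    (Sym.equivNatSum (Fin (n + 1)) d).symm), Nat.card_eq_fintype_card, Sym.card_sym_eq_choose,
    Fintype.card_fin]
  congr 1; omega

/-- Exponents supported on the pivots. -/
def Supp {m : ℕ} (r : Fin (m + 1) → Fin (n + 1)) (e : Idx n d) : Prop :=
  ∀ i, (∀ b, r b ≠ i) → e.1 i = 0

theorem exists_pre {m : ℕ} {r : Fin (m + 1) → Fin (n + 1)} (hr : Function.Injective r) {e : Idx n d}
    (he : Supp r e) : ∃ a : Idx m d, Finsupp.mapDomain r a.1 = e.1 := by
  have h : Finsupp.mapDomain r (e.1.comapDomain r hr.injOn) = e.1 := by
    refine Finsupp.mapDomain_comapDomain r hr e.1 fun i hi => ?_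
    by_contra h
    exact Finsupp.mem_support_iff.1 hi (he i fun b hb => h ⟨b, hb⟩)
  refine ⟨⟨e.1.comapDomain r hr.injOn, ?_⟩, h⟩
  have h2 := congrArg Finsupp.degree h
  rw [Finsupp.degree_mapDomain] at h2
  rw [h2, e.2]

theorem card_supp {m : ℕ} {r : Fin (m + 1) → Fin (n + 1)} (hr : Function.Injective r) :
    Nat.card {e : Idx n d // Supp r e} = (m + d).choose d := by
  rw [← card_idx (n := m) (d := d)]
  refine (Nat.card_congr (Equiv.ofBijective (fun a : Idx m d =>
    (⟨⟨Finsupp.mapDomain r a.1, by rw [Finsupp.degree_mapDomain]; exact a.2⟩, fun i hi =>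
      Finsupp.mapDomain_of_notMem_range _ _ fun ⟨b, hb⟩ => hi b hb⟩ : {e : Idx n d // Supp r e}))
    ⟨fun a b h => Subtype.ext (Finsupp.mapDomain_injective hr (congrArg (·.1.1) h)), fun e => ?_⟩)).symm
  obtain ⟨a, ha⟩ := exists_pre hr e.2
  exact ⟨a, Subtype.ext (Subtype.ext ha)⟩

/-- Parameters: moving coordinates of the pivot basis, and free coefficients. -/
abbrev Par {m : ℕ} (r : Fin (m + 1) → Fin (n + 1)) (d : ℕ) : Type :=
  (Fin (m + 1) × {i : Fin (n + 1) // ∀ b, r b ≠ i}) ⊕ {e : Idx n d // ¬ Supp r e}

theorem card_par {m : ℕ} {r : Fin (m + 1) → Fin (n + 1)} (hr : Function.Injective r) :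
    Nat.card (Par r d) + (m + d).choose d = (m + 1) * (n - m) + Nat.card (Idx n d) := by
  classical
  rw [Nat.card_sum, Nat.card_prod, Nat.card_fin, add_assoc, ← card_supp hr,
    ← Nat.card_sum, Nat.card_congr ((Equiv.sumComm _ _).trans (Equiv.sumCompl _))]
  congr 2
  rw [Nat.card_eq_fintype_card, Fintype.card_subtype,
    show (Finset.univ.filter fun i => ∀ b, r b ≠ i) = (Finset.univ.image r)ᶜ by ext i; simp,
    Finset.card_compl, Finset.card_image_of_injective _ hr, Finset.card_univ, Fintype.card_fin,
    Fintype.card_fin]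
  omega

/-- The pivot basis vectors with polynomial coefficients. -/
noncomputable def wPoly {m : ℕ} (r : Fin (m + 1) → Fin (n + 1)) (a : Fin (m + 1)) (i : Fin (n + 1)) :
    MvPolynomial (Par r d) k :=
  haveI := Classical.propDecidable (∀ b, r b ≠ i)
  if h : ∀ b, r b ≠ i then X (.inl (a, ⟨i, h⟩)) else if r a = i then 1 else 0

/-- The pivot basis vectors. -/
noncomputable def wOf {m : ℕ} (r : Fin (m + 1) → Fin (n + 1)) (t : Par r d → k) (a : Fin (m + 1)) :
    Fin (n + 1) → k := fun i => eval t (wPoly (k := k) r a i)

/-- The restriction of a form to the span of `w`. -/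
noncomputable def res {R : Type*} [CommRing R] [Algebra k R] {m : ℕ}
    (w : Fin (m + 1) → Fin (n + 1) → R) :
    MvPolynomial (Fin (n + 1)) k →ₐ[k] MvPolynomial (Fin (m + 1)) R :=
  aeval fun i => ∑ a, C (w a i) * X a

theorem map_res {R S : Type*} [CommRing R] [Algebra k R] [CommRing S] [Algebra k S] {m : ℕ}
    (f : R →ₐ[k] S) (w : Fin (m + 1) → Fin (n + 1) → R) (F : MvPolynomial (Fin (n + 1)) k) :
    MvPolynomial.map (f : R →+* S) (res w F) = res (fun a i => f (w a i)) F := by
  induction F using MvPolynomial.induction_on with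
  | C c => simp [res, IsScalarTower.algebraMap_apply k R (MvPolynomial (Fin (m + 1)) R),
      IsScalarTower.algebraMap_apply k S (MvPolynomial (Fin (m + 1)) S)]
  | add p q hp hq => simp only [map_add, hp, hq]
  | mul_X p i hp => simp only [map_mul, hp]; simp [res]

theorem eval_res {m : ℕ} (w : Fin (m + 1) → Fin (n + 1) → k) (F : MvPolynomial (Fin (n + 1)) k)
    (y : Fin (m + 1) → k) : eval y (res w F) = eval (fun i => ∑ a, y a * w a i) F := by
  induction F using MvPolynomial.induction_on with
  | C c => simp [res]
  | add p q hp hq => simp only [map_add, hp, hq]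
  | mul_X p i hp => simp only [map_mul, hp]; simp [res, mul_comm]

open scoped Classical in
/-- The parametrised coefficient of a form containing the subspace. -/
noncomputable def P {m : ℕ} (r : Fin (m + 1) → Fin (n + 1)) (e : Idx n d) :
    MvPolynomial (Par r d) k :=
  haveI := Classical.propDecidable (Supp r e)
  if h : Supp r e then
    - ∑ e' : {e : Idx n d // ¬ Supp r e}, X (.inr e') *
        coeff (e.1.mapDomain (Function.invFun r)) (res (k := k) (wPoly r) (monomial e'.1.1 1))
  else X (.inr ⟨e, h⟩)

theorem subspace_param [Infinite k] {m : ℕ} (U : Submodule k (Fin (n + 1) → k))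
    (hU : Module.finrank k ↥U = m + 1) (G : LefPen.Form n k d) (hG : ∀ u ∈ U, eval u G.1 = 0) :
    ∃ (r : Fin (m + 1) → Fin (n + 1)) (t : Par r d → k), Function.Injective r ∧
      (∀ e, eval t (P r e) = coef G e) ∧ U = Submodule.span k (Set.range (wOf r t)) := by
  classical
  -- pivots
  let cs : Set (Module.Dual k U) :=
    Set.range fun i => (LinearMap.proj i : (Fin (n + 1) → k) →ₗ[k] k).comp U.subtype
  have hcs : Submodule.span k cs = ⊤ := by
    by_contra hne
    obtain ⟨f, hf, hfz⟩ := Submodule.exists_dual_map_eq_bot_of_lt_top (lt_top_iff_ne_top.2 hne)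
      inferInstance
    obtain ⟨u, rfl⟩ := (Module.evalEquiv k U).surjective f
    refine hf ?_
    have : u = 0 := Subtype.ext <| funext fun i => by
      have := (Submodule.eq_bot_iff _).1 hfz _ ⟨_, Submodule.subset_span ⟨i, rfl⟩, rfl⟩
      simpa using this
    rw [this, map_zero]
  have hfr : Module.finrank k (Submodule.span k cs) = m + 1 := by
    rw [hcs, finrank_top, Subspace.dual_finrank_eq, hU]
  obtain ⟨f, hfs, hfspan, hfli⟩ := Submodule.exists_fun_fin_finrank_span_eq k cs
  choose r' hr' using fun b : Fin (m + 1) => hfs (Fin.cast hfr.symm b)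
  have hr : Function.Injective r' := fun a b h => by
    have e := hr' a
    rw [h, hr' b] at e
    have := hfli.injective e
    simpa using this.symm
  let L : U →ₗ[k] (Fin (m + 1) → k) :=
    LinearMap.pi fun b => (LinearMap.proj (r' b) : (Fin (n + 1) → k) →ₗ[k] k).comp U.subtype
  have hinj : Function.Injective L := by
    rw [← LinearMap.ker_eq_bot, LinearMap.ker_eq_bot']
    intro u hu
    rw [← Module.forall_dual_apply_eq_zero_iff k]
    intro φ
    have : φ ∈ Submodule.span k (Set.range f) := by rw [hfspan, hcs]; trivial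
    induction this using Submodule.span_induction with
    | mem φ hφ =>
      obtain ⟨j, rfl⟩ := hφ
      have := congrFun hu (Fin.cast hfr j)
      rw [show j = Fin.cast hfr.symm (Fin.cast hfr j) by simp, ← hr']
      exact this
    | zero => simp
    | add x y _ _ hx hy => simp [hx, hy]
    | smul c x _ hx => simp [hx]
  have hsurj : Function.Surjective L :=
    (LinearMap.injective_iff_surjective_of_finrank_eq_finrank
      (by rw [hU, Module.finrank_fintype_fun_eq_card, Fintype.card_fin])).1 hinj
  choose w hw using fun a => hsurj (Pi.single a 1)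
  -- parameters
  let t : Par r' d → k := Sum.elim (fun p => (w p.1).1 p.2.1) (fun e => coef G e.1)
  have hwt : ∀ a, wOf r' t a = (w a).1 := by
    intro a; funext i
    simp only [wOf, wPoly]
    by_cases h : ∀ b, r' b ≠ i
    · rw [dif_pos h]; simp [t]
    · rw [dif_neg h]
      push Not at h
      obtain ⟨b, rfl⟩ := h
      have hb : (w a).1 (r' b) = (Pi.single a 1 : Fin (m + 1) → k) b := congrFun (hw a) b
      rw [hb, Pi.single_apply]
      simp only [hr.eq_iff, apply_ite (eval t), map_one, map_zero]
      exact if_congr eq_comm rfl rfl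
  refine ⟨r', t, hr, fun e => ?_, ?_⟩
  · unfold P
    by_cases he : Supp r' e
    swap
    · rw [dif_neg he]; simp [t]
    rw [dif_pos he]
    obtain ⟨a, ha⟩ := exists_pre hr he
    have hres : res (fun a i => wOf r' t a i) G.1 = 0 := MvPolynomial.funext fun y => by
      rw [eval_res, map_zero]
      refine hG _ ?_
      rw [show (fun i => ∑ a, y a * wOf r' t a i) = (∑ a, y a • w a : U).1 by
        funext i; simp [hwt, Finset.sum_apply]]
      exact Subtype.prop _
    have hc := congrArg (coeff a.1) hres
    rw [← form_coef G, form, map_sum, coeff_sum, coeff_zero,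
      ← Fintype.sum_subtype_add_sum_subtype (Supp r')] at hc
    have hsup : ∀ x : {e : Idx n d // Supp r' e}, coeff a.1 (res (fun a i => wOf r' t a i)
        (monomial x.1.1 (coef G x.1))) = if x.1 = e then coef G e else 0 := by
      rintro ⟨x, hx⟩
      obtain ⟨b, hb⟩ := exists_pre hr hx
      have hmon : res (fun a i => wOf r' t a i) (monomial x.1 (coef G x)) = monomial b.1 (coef G x) := by
        rw [res, aeval_monomial, ← hb, Finsupp.prod_mapDomain_index_inj hr, monomial_eq,
          MvPolynomial.algebraMap_eq]
        congr 1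
        refine Finsupp.prod_congr fun c _ => ?_
        congr 1
        rw [Finset.sum_eq_single c]
        · simp [hwt, show (w c).1 (r' c) = 1 from (congrFun (hw c) c).trans (by simp)]
        · intro a' _ ha'
          simp [hwt, show (w a').1 (r' c) = 0 from (congrFun (hw a') c).trans (by simp [Ne.symm ha'])]
        · simp
      rw [hmon, coeff_monomial]
      by_cases hxe : x = e
      · subst hxe
        rw [if_pos rfl, if_pos (Subtype.ext_iff.1 (Subtype.ext (Finsupp.mapDomain_injective hr (hb.trans ha.symm)) : b = a))]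
      · rw [if_neg hxe, if_neg fun h => hxe (Subtype.ext (by rw [← hb, h, ha]))]
    rw [Finset.sum_congr rfl fun x _ => hsup x, Finset.sum_eq_single (⟨e, he⟩ : {e // Supp r' e})
      (fun x _ hx => if_neg fun h => hx (Subtype.ext h)) (by simp), if_pos rfl] at hc
    rw [show e.1.mapDomain (Function.invFun r') = a.1 by
      rw [← ha, ← Finsupp.mapDomain_comp, Function.invFun_comp hr, Finsupp.mapDomain_id]]
    rw [eq_neg_of_add_eq_zero_left hc, map_neg, map_sum]
    congr 1
    refine Finset.sum_congr rfl fun x _ => ?_
    have h2 : coeff a.1 (res (fun a i => wOf r' t a i) (monomial x.1.1 (coef G x.1))) =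
        coef G x.1 * eval t (coeff a.1 (res (k := k) (wPoly r') (monomial x.1.1 1))) := by
      have hm : MvPolynomial.map (eval t) (res (k := k) (wPoly r') (monomial x.1.1 (1 : k))) =
          res (k := k) (fun a i => wOf r' t a i) (monomial x.1.1 (1 : k)) := by
        have h := map_res (aeval t) (wPoly r') (monomial x.1.1 (1 : k))
        have hce : ((aeval t : MvPolynomial (Par r' d) k →ₐ[k] k) : MvPolynomial (Par r' d) k →+* k) =
            eval t := by ext <;> simp
        rw [hce] at h
        simpa only [wOf, aeval_eq_eval] using h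
      rw [← coeff_map, hm, show monomial x.1.1 (coef G x.1) = coef G x.1 • monomial x.1.1 (1 : k) by simp [smul_monomial],
        map_smul, coeff_smul, smul_eq_mul]
    rw [h2, map_mul, eval_X]
    rfl
  · refine le_antisymm (fun u hu => ?_) (Submodule.span_le.2 ?_)
    · have huw : (⟨u, hu⟩ : U) = ∑ a, L ⟨u, hu⟩ a • w a := hinj (by
        rw [map_sum]; funext b; simp [hw, Pi.single_apply])
      rw [show u = (∑ a, L ⟨u, hu⟩ a • w a : U).1 from congrArg Subtype.val huw,
        AddSubmonoidClass.coe_finsetSum]
      exact Submodule.sum_mem _ fun a _ => Submodule.smul_mem _ _ (Submodule.subset_span ⟨a, hwt a⟩)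
    · rintro _ ⟨a, rfl⟩
      rw [hwt]; exact (w a).2

end Groth.Agent.Lib.PolyFun45.Forms
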