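import Groth.Agent.Lib.PolyFun45.Seq
import Mathlib.Algebra.Polynomial.Roots

/-!
# Lines through a point of a general hypersurface

* `exists_not_bad`: for a general form and every zero `v` of it, the expansion
  `(G_1, …, G_d)` of the form at `v` is good;
* `codimGE_cone`: then the cone of lines through `v` has codimension `≥ d`.
-/

set_option autoImplicit false

universe u

open MvPolynomial

namespace Groth.Agent.Lib.PolyFun45.Lines

open Groth.Agent.H83.LineExist (Idx form coeff_form form_coeff form_isHomogeneous map_form)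
open Groth.Agent.Lib.Dim.Basic (dimQ trdegNat)
open Crit Groth.Agent.Lib.PolyFun45.Seq

attribute [local instance] MvPolynomial.gradedAlgebra

variable {k : Type u} [Field k] {m d : ℕ}

theorem card_var : Nat.card (Var m d) + 1 = Nat.card (Idx (m + 1) d) := by
  rw [Nat.card_sigma, Forms.card_idx]
  simp only [Forms.card_idx]
  induction d with
  | zero => simp
  | succ d ih =>
    rw [Fin.sum_univ_castSucc]
    simp only [Fin.val_castSucc, Fin.val_last]
    rw [← add_assoc (m + 1) d 1, Nat.choose_succ_succ', ← ih,
      show m + 1 + d = m + (d + 1) by omega]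
    omega

/-- The homogeneous substitution `X i ↦ X i + v i * X r` (identity on `X r`). -/
noncomputable def shift {R : Type*} [CommRing R] (r : Fin (m + 2)) (v : Fin (m + 1) → R) :
    MvPolynomial (Fin (m + 2)) R →ₐ[R] MvPolynomial (Fin (m + 2)) R :=
  aeval (r.insertNth (α := fun _ => MvPolynomial (Fin (m + 2)) R) (X r)
    fun a => X (r.succAbove a) + C (v a) * X r)

theorem shift_shift {R : Type*} [CommRing R] (r : Fin (m + 2)) (v : Fin (m + 1) → R)
    (F : MvPolynomial (Fin (m + 2)) R) : shift r (fun a => -v a) (shift r v F) = F := by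
  rw [← AlgHom.comp_apply]
  refine (DFunLike.congr_fun (MvPolynomial.algHom_ext fun i => ?_) F).trans (AlgHom.id_apply F)
  rcases Fin.eq_self_or_eq_succAbove r i with rfl | ⟨a, rfl⟩
  · simp [shift]
  · simp [shift]

theorem shift_isHomogeneous {R : Type*} [CommRing R] (r : Fin (m + 2)) (v : Fin (m + 1) → R)
    {F : MvPolynomial (Fin (m + 2)) R} {e : ℕ} (hF : F.IsHomogeneous e) :
    (shift r v F).IsHomogeneous e := by
  have h := hF.aeval (R := R) (r.insertNth (α := fun _ => MvPolynomial (Fin (m + 2)) R) (X r)
    fun a => X (r.succAbove a) + C (v a) * X r) (n := 1) fun i => by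
    rcases Fin.eq_self_or_eq_succAbove r i with rfl | ⟨a, rfl⟩
    · simpa using isHomogeneous_X R i
    · simpa using (isHomogeneous_X R _).add (isHomogeneous_C_mul_X (v a) r)
  rw [one_mul] at h
  exact h

/-- The exponent of a term of the expansion. -/
noncomputable def mon (r : Fin (m + 2)) (z : Var m d) : Fin (m + 2) →₀ ℕ :=
  Finsupp.single r (d - 1 - z.1.1) + z.2.1.mapDomain r.succAbove

/-- `∑ j, X r ^ (d - 1 - j) * G_j`. -/
noncomputable def expand {R : Type*} [CommRing R] (r : Fin (m + 2)) (c : Var m d → R) :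
    MvPolynomial (Fin (m + 2)) R := ∑ z, monomial (mon r z) (c z)

theorem expand_eq {R : Type*} [CommRing R] (r : Fin (m + 2)) (c : Var m d → R) :
    expand r c = ∑ j : Fin d, X r ^ (d - 1 - j.1) * rename r.succAbove (form fun e => c ⟨j, e⟩) := by
  rw [expand, Fintype.sum_sigma]
  refine Finset.sum_congr rfl fun j _ => ?_
  rw [form, map_sum, Finset.mul_sum]
  refine Finset.sum_congr rfl fun e _ => ?_
  rw [rename_monomial, X_pow_eq_monomial, monomial_mul, one_mul, mon]

theorem mon_injective (r : Fin (m + 2)) : Function.Injective (mon (m := m) (d := d) r) := by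
  rintro ⟨j, e⟩ ⟨j', e'⟩ h
  have h1 := DFunLike.congr_fun h r
  have hne : ∀ a : Fin (m + 1) →₀ ℕ, a.mapDomain r.succAbove r = 0 := fun a =>
    Finsupp.mapDomain_of_notMem_range _ _ (by simp)
  simp only [mon, Finsupp.add_apply, Finsupp.single_eq_same, hne, add_zero] at h1
  have hj : j = j' := Fin.ext (by have := j.2; have := j'.2; omega)
  subst hj
  simp only [mon] at h
  rw [Subtype.ext (Finsupp.mapDomain_injective Fin.succAbove_right_injective (add_left_cancel h))]

theorem exists_mon (r : Fin (m + 2)) {e : Fin (m + 2) →₀ ℕ} (he : e.degree = d) (hr : e r < d) :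
    ∃ z : Var m d, mon r z = e := by
  let a : Fin (m + 1) →₀ ℕ := e.comapDomain r.succAbove Fin.succAbove_right_injective.injOn
  have hdec : Finsupp.single r (e r) + a.mapDomain r.succAbove = e := by
    ext i
    rcases Fin.eq_self_or_eq_succAbove r i with rfl | ⟨b, rfl⟩
    · rw [Finsupp.add_apply, Finsupp.single_eq_same,
        Finsupp.mapDomain_of_notMem_range _ _ (by simp), add_zero]
    · rw [Finsupp.add_apply, Finsupp.single_eq_of_ne (Fin.succAbove_ne r b), zero_add,
        Finsupp.mapDomain_apply Fin.succAbove_right_injective]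
      rfl
  have ha : a.degree = d - 1 - e r + 1 := by
    have := congrArg Finsupp.degree hdec
    rw [map_add, Finsupp.degree_single, Finsupp.degree_mapDomain, he] at this
    omega
  refine ⟨⟨⟨d - 1 - e r, by omega⟩, ⟨a, ha⟩⟩, ?_⟩
  rw [mon]
  simp only
  rwa [show d - 1 - (d - 1 - e r) = e r by omega]

theorem expand_coeff (r : Fin (m + 2)) {F : MvPolynomial (Fin (m + 2)) k} (hF : F.IsHomogeneous d)
    (h0 : coeff (Finsupp.single r d) F = 0) :
    expand r (fun z : Var m d => coeff (mon r z) F) = F := by
  classical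
  ext e
  rw [expand, coeff_sum]
  simp only [coeff_monomial]
  by_cases hz : ∃ z : Var m d, mon r z = e
  · obtain ⟨z, rfl⟩ := hz
    rw [Finset.sum_eq_single z (fun b _ hb => if_neg fun h => hb (mon_injective r h)) (by simp),
      if_pos rfl]
  · rw [Finset.sum_eq_zero fun b _ => if_neg fun h => hz ⟨b, h⟩]
    by_cases he : e.degree = d
    · rcases Nat.lt_or_ge (e r) d with h | h
      · exact absurd (exists_mon r he h) hz
      · have : e = Finsupp.single r d := by
          have hle := Finsupp.le_degree r e
          have h2 : Finsupp.single r (e r) + e.erase r = e := Finsupp.single_add_erase r e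
          have h3 := congrArg Finsupp.degree h2
          rw [map_add, Finsupp.degree_single] at h3
          have h4 : e.erase r = 0 := (Finsupp.degree_eq_zero_iff _).1 (by omega)
          rw [h4, add_zero] at h2
          rw [← h2, show e r = d by omega]
        rw [this, h0]
    · rw [hF.coeff_eq_zero he]

/-- The expansion of a form at a point with `r`-th coordinate one. -/
noncomputable def expansion (r : Fin (m + 2)) (v : Fin (m + 1) → k) (Φ : MvPolynomial (Fin (m + 2)) k)
    (z : Var m d) : k := coeff (mon r z) (shift r v Φ)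

theorem eval_shift (r : Fin (m + 2)) (v : Fin (m + 1) → k) (F : MvPolynomial (Fin (m + 2)) k)
    (x : Fin (m + 2) → k) :
    eval x (shift r v F) = eval (r.insertNth (α := fun _ => k) (x r) fun a => x (r.succAbove a) + v a * x r) F := by
  rw [shift, Basic.eval_comp]
  refine congrArg (fun f => eval f F) (funext fun i => ?_)
  rcases Fin.eq_self_or_eq_succAbove r i with rfl | ⟨a, rfl⟩
  · simp
  · simp

theorem coeff_shift_single (r : Fin (m + 2)) (v : Fin (m + 1) → k) {Φ : MvPolynomial (Fin (m + 2)) k}
    (hΦ : Φ.IsHomogeneous d) (hv : eval (r.insertNth (α := fun _ => k) 1 v) Φ = 0) :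
    coeff (Finsupp.single r d) (shift r v Φ) = 0 := by
  classical
  have h1 : eval (Pi.single r 1 : Fin (m + 2) → k) (shift r v Φ) =
      coeff (Finsupp.single r d) (shift r v Φ) := by
    rw [eval_eq', Finset.sum_eq_single (Finsupp.single r d)]
    · rw [Finset.prod_eq_single r (fun i _ hi => by simp [Finsupp.single_eq_of_ne hi]) (by simp)]
      simp
    · intro e he hne
      refine mul_eq_zero_of_right _ ?_
      obtain ⟨i, hir, hi⟩ : ∃ i, i ≠ r ∧ e i ≠ 0 := by
        by_contra hc
        push Not at hc
        have hee : e = Finsupp.single r (e r) := Finsupp.ext fun i => by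
          by_cases h : i = r
          · subst h; simp
          · rw [Finsupp.single_eq_of_ne h]; exact hc i h
        have hdeg : e.degree = d := by
          by_contra hh
          exact mem_support_iff.1 he ((shift_isHomogeneous r v hΦ).coeff_eq_zero hh)
        rw [hee, Finsupp.degree_single] at hdeg
        exact hne (hdeg ▸ hee)
      exact Finset.prod_eq_zero (Finset.mem_univ i) (by simp [hir, zero_pow hi])
    · intro h; simp [notMem_support_iff.1 h]
  rw [← h1, eval_shift]
  convert hv using 3 with i
  simp [Pi.single_eq_of_ne (Fin.succAbove_ne r _)]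

theorem shift_expand (r : Fin (m + 2)) (v : Fin (m + 1) → k) {Φ : MvPolynomial (Fin (m + 2)) k}
    (hΦ : Φ.IsHomogeneous d) (hv : eval (r.insertNth (α := fun _ => k) 1 v) Φ = 0) :
    shift r (fun a => -v a) (expand r (expansion (d := d) r v Φ)) = Φ := by
  unfold expansion
  rw [expand_coeff r (shift_isHomogeneous r v hΦ) (coeff_shift_single r v hΦ hv), shift_shift]

theorem eval_expansion [Infinite k] (r : Fin (m + 2)) (v : Fin (m + 1) → k) {Φ : MvPolynomial (Fin (m + 2)) k}
    (hΦ : Φ.IsHomogeneous d) (hv : eval (r.insertNth (α := fun _ => k) 1 v) Φ = 0)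
    {w : Fin (m + 2) → k}
    (hw : ∀ s t : k, eval (s • r.insertNth (α := fun _ => k) 1 v + t • w) Φ = 0) (j : Fin d) :
    eval (fun a => w (r.succAbove a) - w r * v a) (form fun e => expansion (d := d) r v Φ ⟨j, e⟩) = 0 := by
  classical
  set G : Fin d → k := fun j =>
    eval (fun a => w (r.succAbove a) - w r * v a) (form fun e => expansion (d := d) r v Φ ⟨j, e⟩)
  set u : Fin (m + 2) → k := r.insertNth (α := fun _ => k) 0 fun a => w (r.succAbove a) - w r * v a
  have hkey : ∀ s : k, ∑ j : Fin d, s ^ (d - 1 - j.1) * G j = 0 := fun s => by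
    have h := hw (s - w r) 1
    rw [← shift_expand r v hΦ hv, eval_shift, expand_eq, map_sum] at h
    rw [← h]
    refine Finset.sum_congr rfl fun j _ => ?_
    rw [map_mul, map_pow, eval_X, eval_rename]
    refine congrArg₂ (· * eval · _) ?_ (funext fun a => ?_) |>.trans rfl
    · simp
    · simp; ring
  set p : Polynomial k := ∑ j : Fin d, Polynomial.monomial (d - 1 - j.1) (G j)
  have hp : p = 0 := Polynomial.funext fun s => by
    simp only [p, Polynomial.eval_finsetSum, Polynomial.eval_monomial, Polynomial.eval_zero]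
    rw [← hkey s]
    exact Finset.sum_congr rfl fun j _ => mul_comm _ _
  have h := congrArg (Polynomial.coeff · (d - 1 - j.1)) hp
  simp only [p, Polynomial.finsetSum_coeff, Polynomial.coeff_monomial, Polynomial.coeff_zero] at h
  rw [Finset.sum_eq_single j (fun b _ hb => if_neg fun hh => hb (Fin.ext (by
    have := b.2; have := j.2; omega))) (by simp), if_pos rfl] at h
  exact h

/-- The coefficient map of the incidence. -/
noncomputable def P (r : Fin (m + 2)) (e : Idx (m + 1) d) :
    MvPolynomial (Fin (m + 1) ⊕ Var m d) k :=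
  coeff e.1 (shift r (fun a => -X (.inl a)) (expand r fun z => X (.inr z)))

theorem map_shift {R S : Type*} [CommRing R] [CommRing S] (f : R →+* S) (r : Fin (m + 2))
    (v : Fin (m + 1) → R) (F : MvPolynomial (Fin (m + 2)) R) :
    MvPolynomial.map f (shift r v F) = shift r (fun a => f (v a)) (MvPolynomial.map f F) := by
  induction F using MvPolynomial.induction_on with
  | C c => simp [shift]
  | add p q hp hq => simp only [map_add, hp, hq]
  | mul_X p i hp =>
    simp only [map_mul, hp, map_X]
    congr 1
    rcases Fin.eq_self_or_eq_succAbove r i with rfl | ⟨a, rfl⟩ <;> simp [shift]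

theorem eval_P (r : Fin (m + 2)) (v : Fin (m + 1) → k) (c : Var m d → k) (e : Idx (m + 1) d) :
    eval (Sum.elim v c) (P r e) = coeff e.1 (shift r (fun a => -v a) (expand r c)) := by
  rw [P, ← coeff_map, map_shift]
  simp [expand, map_sum, map_monomial]

/-- Forms with a bad point are not dense. -/
theorem exists_avoid [IsAlgClosed k] (hdm : d + 1 ≤ m) :
    ∃ g : MvPolynomial (Idx (m + 1) d) k, g ≠ 0 ∧
      ∀ (r : Fin (m + 2)) (v : Fin (m + 1) → k) (c : Var m d → k), ¬ Good d c →
        eval (fun e => eval (Sum.elim v c) (P r e)) g = 0 := by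
  classical
  let I : Ideal (MvPolynomial (Var m d) k) :=
    MvPolynomial.vanishingIdeal k {c : Var m d → k | ¬ Good d c}
  have hmem : ∀ p, (∀ c, ¬ Good d c → eval c p = 0) → p ∈ I := fun p hp =>
    MvPolynomial.mem_vanishingIdeal_iff.2 fun c hc => by rw [aeval_eq_eval]; exact hp c hc
  have hone : ∀ (r : Fin (m + 2)) (Q : I.minimalPrimes), ∃ g : MvPolynomial (Idx (m + 1) d) k,
      g ≠ 0 ∧ ∀ v c, (∀ q ∈ Q.1, eval c q = 0) → eval (fun e => eval (Sum.elim v c) (P r e)) g = 0 := by
    rintro r ⟨Q, hQ⟩
    have hQp : Q.IsPrime := hQ.1.1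
    have hht := height_ge_of_bad hdm Q fun p hp => hQ.1.2 (hmem p hp)
    let A := MvPolynomial (Var m d) k ⧸ Q
    let π : MvPolynomial (Fin (m + 1) ⊕ Var m d) k →ₐ[k] MvPolynomial (Fin (m + 1)) A :=
      aeval (Sum.elim X fun z => C (Ideal.Quotient.mk Q (X z)))
    by_contra hcon
    push Not at hcon
    have hind : AlgebraicIndependent k fun e => π (P r e) := by
      rw [algebraicIndependent_iff]
      intro g hg
      by_contra hg0
      obtain ⟨v, c, hc, hne⟩ := hcon g hg0
      refine hne ?_
      let evA : A →ₐ[k] k := Ideal.Quotient.liftₐ Q (aeval c) fun q hq => by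
        rw [aeval_eq_eval]; exact hc q hq
      let ev : MvPolynomial (Fin (m + 1)) A →+* k := eval₂Hom (evA : A →+* k) v
      have hev : ∀ q, ev (π q) = eval (Sum.elim v c) q := by
        intro q
        induction q using MvPolynomial.induction_on with
        | C a => simp [π, ev, IsScalarTower.algebraMap_apply k A (MvPolynomial (Fin (m + 1)) A),
            MvPolynomial.algebraMap_eq]
        | add p q hp hq => simp only [map_add, hp, hq]
        | mul_X p i hp =>
          simp only [map_mul, hp]
          congr 1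
          cases i with
          | inl a => simp [π, ev]
          | inr z =>
            simp [π, ev, evA]
            exact (Ideal.Quotient.lift_mk Q _ _).trans (aeval_X _ _)
      rw [← Basic.eval_comp, ← hev, ← AlgHom.comp_apply, comp_aeval, hg, map_zero]
    have h1 := hind.lift_cardinalMk_le_trdeg
    have h2 : Algebra.trdeg k (MvPolynomial (Fin (m + 1)) A) = ((dimQ k Q + (m + 1) : ℕ) : Cardinal) := by
      rw [← trdeg_add_eq k A (A := MvPolynomial (Fin (m + 1)) A), MvPolynomial.trdeg_of_isDomain,
        Lib.Dim.Basic.trdeg_quotient]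
      simp
    rw [h2, Cardinal.mk_fintype] at h1
    simp only [Cardinal.lift_natCast, Nat.cast_le] at h1
    have hsum := Lib.Dim.Basic.height_add_dimQ k Q
    rw [trdegNat, MvPolynomial.trdeg_of_isDomain, Cardinal.mk_fintype, Cardinal.lift_natCast,
      Cardinal.toNat_natCast] at hsum
    have hcv := card_var (m := m) (d := d)
    simp only [Nat.card_eq_fintype_card] at hcv
    have h3 : m + 1 + dimQ k Q ≤ Fintype.card (Var m d) := by
      have := (add_le_add hht (le_refl (dimQ k Q : ℕ∞))).trans_eq hsum
      exact_mod_cast this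
    omega
  choose g hg0 hgz using hone
  have := (Ideal.finite_minimalPrimes_of_isNoetherianRing _ I).fintype
  refine ⟨∏ r, ∏ Q, g r Q, Finset.prod_ne_zero_iff.2 fun r _ => Finset.prod_ne_zero_iff.2 fun Q _ =>
    hg0 r Q, fun r v c hc => ?_⟩
  obtain ⟨Q, hQ⟩ : ∃ Q : I.minimalPrimes, ∀ q ∈ Q.1, eval c q = 0 := by
    by_contra hno
    push Not at hno
    choose q hq hqne using hno
    have hmemr : (∏ Q, q Q) ∈ I.radical := by
      rw [← Ideal.sInf_minimalPrimes, Ideal.mem_sInf]
      intro Q hQ
      exact Ideal.prod_mem Q (Finset.mem_univ (⟨Q, hQ⟩ : I.minimalPrimes)) (hq ⟨Q, hQ⟩)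
    obtain ⟨l, hl⟩ := hmemr
    have h0 := MvPolynomial.mem_vanishingIdeal_iff.1 hl c hc
    rw [aeval_eq_eval, map_pow, map_prod] at h0
    exact Finset.prod_ne_zero_iff.2 (fun Q _ => hqne Q) (eq_zero_of_pow_eq_zero h0)
  rw [map_prod]
  refine Finset.prod_eq_zero (Finset.mem_univ r) ?_
  rw [map_prod]
  exact Finset.prod_eq_zero (Finset.mem_univ Q) (hgz r Q v c hQ)

/-- Finitely many zeros with given values of the linear forms. -/
theorem finite_zeros {I : Ideal (MvPolynomial (Fin (m + 1)) k)}
    (hI : I.IsHomogeneous (homogeneousSubmodule (Fin (m + 1)) k)) {s N : ℕ}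
    {L : Fin s → Fin (m + 1) → k} (h : Null I L N) (ρ : Fin s → k) :
    {u : Fin (m + 1) → k | (∀ p ∈ I, eval u p = 0) ∧ ∀ b, eval u (lin (L b)) = ρ b}.Finite := by
  classical
  have hfin := finite_of_null hI h
  have hint : ∀ a, ∃ p : Polynomial (MvPolynomial (Fin s) k), p.Monic ∧
      Polynomial.eval₂ ((Ideal.Quotient.mkₐ k I).comp
        (aeval (fun b => lin (L b)) : MvPolynomial (Fin s) k →ₐ[k] _)).toRingHom
        (Ideal.Quotient.mk I (X a)) p = 0 := fun a => RingHom.Finite.to_isIntegral hfin _
  choose p hp hpz using hint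
  refine Set.Finite.subset (Set.Finite.pi fun a => ((p a).map (eval ρ)).roots.toFinset.finite_toSet)
    fun u hu a _ => ?_
  simp only [Finset.mem_coe, Multiset.mem_toFinset, Polynomial.mem_roots ((hp a).map _).ne_zero]
  let evI : MvPolynomial (Fin (m + 1)) k ⧸ I →+* k := Ideal.Quotient.lift I (eval u) hu.1
  have hh := congrArg evI (hpz a)
  rw [Polynomial.hom_eval₂, map_zero] at hh
  rw [Polynomial.IsRoot, Polynomial.eval_map]
  have he : evI.comp ((Ideal.Quotient.mkₐ k I).comp
      (aeval (fun b => lin (L b)) : MvPolynomial (Fin s) k →ₐ[k] _)).toRingHom = eval ρ := by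
    refine MvPolynomial.ringHom_ext (fun c => ?_) fun b => ?_
    · simp [evI]
    · simp [evI, hu.2 b]
  rw [he] at hh
  simpa [evI] using hh

/-- The cone of lines through a good point. -/
theorem height_cone [IsAlgClosed k] (hdm : d ≤ m) (r : Fin (m + 2)) (v : Fin (m + 1) → k)
    {c : Var m d → k} (hc : Good d c) (Q : Ideal (MvPolynomial (Fin (m + 2)) k)) [Q.IsPrime]
    (hQ : ∀ j : Fin d, aeval (fun a => X (r.succAbove a) - C (v a) * X r)
      (form fun e => c ⟨j, e⟩) ∈ Q) : (d : ℕ∞) ≤ Q.height := by
  classical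
  obtain ⟨L, N, hN⟩ := hc
  let sub : MvPolynomial (Fin (m + 1)) k →ₐ[k] MvPolynomial (Fin (m + 2)) k :=
    aeval fun a => X (r.succAbove a) - C (v a) * X r
  let ψ : Fin (m - d + 1 + 1) → MvPolynomial (Fin (m + 2)) k :=
    Fin.cons (X r) fun b => sub (lin (L b))
  have hsub : ∀ (x : Fin (m + 2) → k) p,
      eval x (sub p) = eval (fun a => x (r.succAbove a) - v a * x r) p := fun x p => by
    rw [Basic.eval_comp]
    exact congrArg (fun f => eval f p) (funext fun a => by simp)
  have h1 : dimQ k Q ≤ m - d + 1 + 1 := by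
    refine dimQ_le_of_finite_fibre Q (Δ := 1) (fun h => (inferInstance : Q.IsPrime).ne_top
      ((Ideal.eq_top_iff_one Q).2 h)) ψ fun w => ?_
    refine Set.Finite.subset ((finite_zeros (pre_isHomogeneous d c) hN
      fun b => eval w (sub (lin (L b)))).image
        fun u => r.insertNth (α := fun _ => k) (w r) fun a => u a + v a * w r) ?_
    rintro x ⟨hxQ, -, hxψ⟩
    have hr : x r = w r := by simpa [ψ] using hxψ 0
    refine ⟨fun a => x (r.succAbove a) - v a * x r, ⟨?_, fun b => ?_⟩, ?_⟩
    · intro p hp
      have hle : pre d c ≤ RingHom.ker (eval fun a => x (r.succAbove a) - v a * x r) := by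
        refine Ideal.span_le.2 ?_
        rintro _ ⟨j, rfl⟩
        have := hxQ _ (hQ j.1)
        rw [show aeval (fun a => X (r.succAbove a) - C (v a) * X r) = sub from rfl, hsub] at this
        exact this
      exact hle hp
    · have := hxψ b.succ
      simp only [ψ, Fin.cons_succ] at this
      rw [← hsub]
      exact this
    · funext i
      rcases Fin.eq_self_or_eq_succAbove r i with rfl | ⟨a, rfl⟩
      · simp [hr]
      · simp [hr]
  have hsum := Lib.Dim.Basic.height_add_dimQ k Q
  rw [trdegNat, MvPolynomial.trdeg_of_isDomain, Cardinal.mk_fintype, Cardinal.lift_natCast,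
    Cardinal.toNat_natCast, Fintype.card_fin] at hsum
  have hne : Q.height ≠ ⊤ := fun h => by
    rw [h, top_add] at hsum; exact ENat.natCast_ne_top _ hsum.symm
  obtain ⟨hgt, hh⟩ := ENat.ne_top_iff_exists.1 hne
  rw [← hh] at hsum ⊢
  norm_cast at hsum ⊢
  omega

end Groth.Agent.Lib.PolyFun45.Lines
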