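import Groth.Agent.Lib.PolyFun45.Crit
import Mathlib.LinearAlgebra.Pi
import Mathlib.LinearAlgebra.Quotient.Basic

/-!
# Sequences of forms with too big a zero set

`height_ge_of_bad`: tuples `(G_0,…,G_{d-1})`, `deg G_j = j + 1`, in `m + 1` variables, whose zero
set has dimension `> m + 1 - d` lie in a closed set of codimension `> m` (`d < m`).
-/

set_option autoImplicit false

universe u

open MvPolynomial

namespace Groth.Agent.Lib.PolyFun45.Seq

open Groth.Agent.H83.LineExist (Idx form coeff_form form_coeff form_isHomogeneous)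
open Groth.Agent.Lib.Dim.Basic (dimQ trdegNat)
open Crit

attribute [local instance] MvPolynomial.gradedAlgebra

variable {k : Type u} [Field k] {m d : ℕ}

theorem le_choose {N b : ℕ} (hb : 1 ≤ b) (hbN : b + 1 ≤ N) : N ≤ N.choose b := by
  induction N generalizing b with
  | zero => omega
  | succ N ih =>
    obtain ⟨b, rfl⟩ : ∃ b', b = b' + 1 := ⟨b - 1, by omega⟩
    rw [Nat.choose_succ_succ']
    rcases Nat.eq_zero_or_pos b with rfl | hb'
    · simp
    · have h1 := ih (b := b) hb' (by omega)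
      have h2 := Nat.choose_pos (n := N) (k := b + 1) (by omega)
      omega

/-- The coefficient index. -/
abbrev Var (m d : ℕ) : Type := Σ j : Fin d, Idx m (j.1 + 1)

/-- Coordinates on tuples of forms. -/
noncomputable def coords :
    ((j : Fin d) → LefPen.Form m k (j.1 + 1)) ≃ₗ[k] (Var m d → k) :=
  (LinearEquiv.piCongrRight fun _ => Forms.coef).trans
    (LinearEquiv.piCurry (R := k) fun (j : Fin d) (_ : Idx m (j.1 + 1)) => k).symm

theorem form_coords (G : (j : Fin d) → LefPen.Form m k (j.1 + 1)) (j : Fin d) :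
    form (fun e => coords G ⟨j, e⟩) = (G j).1 := Forms.form_coef (G j)

/-- The ideal of the first `i` forms. -/
noncomputable def pre (i : ℕ) (x : Var m d → k) : Ideal (MvPolynomial (Fin (m + 1)) k) :=
  Ideal.span (Set.range fun j : {j : Fin d // j.1 < i} => form fun e => x ⟨j.1, e⟩)

theorem pre_isHomogeneous (i : ℕ) (x : Var m d → k) :
    (pre i x).IsHomogeneous (homogeneousSubmodule (Fin (m + 1)) k) :=
  Ideal.homogeneous_span _ _ fun p hp => by
    obtain ⟨j, rfl⟩ := hp
    exact ⟨_, (mem_homogeneousSubmodule _ _).2 (form_isHomogeneous _)⟩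

theorem pre_mono (i : ℕ) (x : Var m d → k) : pre i x ≤ pre (i + 1) x :=
  Ideal.span_mono fun _ ⟨j, hj⟩ => ⟨⟨j.1, by have := j.2; omega⟩, hj⟩

/-- The first `i` forms cut out a zero set of the expected dimension. -/
def Good (i : ℕ) (x : Var m d → k) : Prop :=
  ∃ (L : Fin (m - i + 1) → Fin (m + 1) → k) (N : ℕ), Null (pre i x) L N

theorem good_open {i N : ℕ} {x : Var m d → k} {L : Fin (m - i + 1) → Fin (m + 1) → k}
    (h : Null (pre i x) L N) :
    ∃ Δ : MvPolynomial (Var m d) k, eval x Δ ≠ 0 ∧ ∀ y, eval y Δ ≠ 0 → Null (pre i y) L N := by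
  obtain ⟨Δ, h1, h2⟩ := exists_open (fun j : {j : Fin d // j.1 < i} => j.1.1 + 1) L
    (fun j e => x ⟨j.1, e⟩) h
  refine ⟨rename (fun z => ⟨z.1.1, z.2⟩) Δ, by rwa [eval_rename], fun y hy => h2 _ ?_⟩
  rwa [eval_rename] at hy

theorem good_zero [Infinite k] (x : Var m d → k) : Good 0 x := by
  refine exists_null _ _ (pre_isHomogeneous 0 x) fun P hP => ?_
  have : P.IsPrime := hP.1.1
  refine (Lib.Dim.Basic.dimQ_anti k (P := ⊥) bot_le).trans ?_
  rw [Lib.Dim.Basic.dimQ_bot, trdegNat, MvPolynomial.trdeg_of_isDomain]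
  simp

theorem ringKrullDim_le_of_good {i : ℕ} {x : Var m d → k} (h : Good i x) :
    ringKrullDim (MvPolynomial (Fin (m + 1)) k ⧸ pre i x) ≤ ((m - i + 1 : ℕ) : WithBot ℕ∞) := by
  obtain ⟨L, N, hN⟩ := h
  have hfin := finite_of_null (pre_isHomogeneous i x) hN
  let _ := (((Ideal.Quotient.mkₐ k (pre i x)).comp
      (aeval (fun b => lin (L b)) : MvPolynomial (Fin (m - i + 1)) k →ₐ[k] _))).toRingHom.toAlgebra
  have : Module.Finite (MvPolynomial (Fin (m - i + 1)) k) (MvPolynomial (Fin (m + 1)) k ⧸ pre i x) :=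
    hfin
  exact (Lib.Dim.Integral.ringKrullDim_le_of_isIntegral (R := MvPolynomial (Fin (m - i + 1)) k)).trans
    (by simp [MvPolynomial.ringKrullDim_of_isNoetherianRing])

theorem exists_prime_of_not_good [Infinite k] {i : ℕ} {x : Var m d → k} (h : ¬ Good i x) :
    ∃ P : Ideal (MvPolynomial (Fin (m + 1)) k), P.IsPrime ∧ pre i x ≤ P ∧ m - i + 1 < dimQ k P := by
  by_contra hc
  push Not at hc
  exact h (exists_null _ _ (pre_isHomogeneous i x) fun P hP => hc P hP.1.1 hP.1.2)

/-- The restriction of forms to generic coordinates. -/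
noncomputable def wMap {s : ℕ} (L : Fin s → Fin (m + 1) → k) (e : ℕ) :
    MvPolynomial (Fin s) k →ₗ[k] (Idx m e → k) :=
  (LinearMap.pi fun x : Idx m e => MvPolynomial.lcoeff k x.1).comp
    (aeval fun b => lin (L b)).toLinearMap

theorem height_ge_of_bad [IsAlgClosed k] (hdm : d + 1 ≤ m) (Q : Ideal (MvPolynomial (Var m d) k))
    [Q.IsPrime] (hbad : ∀ p : MvPolynomial (Var m d) k, (∀ x, ¬ Good d x → eval x p = 0) → p ∈ Q) :
    ((m + 1 : ℕ) : ℕ∞) ≤ Q.height := by
  classical
  let Z : (Var m d → k) → Prop := fun x => ∀ q ∈ Q, eval x q = 0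
  have hnull : ∀ p : MvPolynomial (Var m d) k, (∀ x, Z x → eval x p = 0) → p ∈ Q := by
    intro p hp
    have hQ : MvPolynomial.vanishingIdeal k (MvPolynomial.zeroLocus k Q) = Q := by
      rw [MvPolynomial.vanishingIdeal_zeroLocus_eq_radical]
      exact (Ideal.IsPrime.isRadical ‹_›).radical
    rw [← hQ, MvPolynomial.mem_vanishingIdeal_iff]
    intro x hx
    rw [aeval_eq_eval]
    exact hp x fun q hq => by simpa [aeval_eq_eval] using hx q hq
  have hbadZ : ∀ x, Z x → ¬ Good d x := by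
    rintro x hx ⟨L, N, hN⟩
    obtain ⟨Δ, hΔ, hΔg⟩ := good_open hN
    exact hΔ (hx Δ (hbad Δ fun y hy => by_contra fun hne => hy ⟨L, N, hΔg y hne⟩))
  have hex : ∃ i, ∀ x, Z x → ¬ Good i x := ⟨d, hbadZ⟩
  have hne : ∃ x, Z x := by
    by_contra hc
    push Not at hc
    exact (inferInstance : Q.IsPrime).ne_top ((Ideal.eq_top_iff_one Q).2 (hnull 1 fun x hx => absurd hx (hc x)))
  obtain ⟨i, hi⟩ : ∃ i, Nat.find hex = i + 1 := by
    refine ⟨Nat.find hex - 1, (Nat.sub_add_cancel ?_).symm⟩
    by_contra hlt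
    obtain ⟨x, hx⟩ := hne
    have h0 := Nat.find_spec hex x hx
    rw [show Nat.find hex = 0 by omega] at h0
    exact h0 (good_zero x)
  have hid : i < d := by
    have := Nat.find_min' hex hbadZ
    omega
  have hbadI : ∀ x, Z x → ¬ Good (i + 1) x := hi ▸ Nat.find_spec hex
  obtain ⟨x0, hx0, L, N, hN⟩ : ∃ x, Z x ∧ Good i x := by
    by_contra hc
    push Not at hc
    exact Nat.find_min hex (m := i) (by omega) hc
  obtain ⟨Δ, hΔ0, hΔg⟩ := good_open hN
  have hΔQ : Δ ∉ Q := fun h => hΔ0 (hx0 Δ h)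
  let j0 : Fin d := ⟨i, hid⟩
  -- a complement to the forms in the generic coordinates
  let wf : (Idx (m - i) (i + 1) → k) →ₗ[k] (Idx m (i + 1) → k) :=
    (wMap L (i + 1)).comp ((CohB1.polyGrading (m - i) k (i + 1)).subtype.comp
      (Forms.coef (k := k) (n := m - i) (d := i + 1)).symm.toLinearMap)
  let W : Submodule k (Idx m (i + 1) → k) := LinearMap.range wf
  have hwf : ∀ a, form (wf a) = aeval (fun b => lin (L b)) (form a) := fun a => by
    have h := (form_isHomogeneous a).aeval (fun b => lin (L b)) fun b => lin_isHomogeneous _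
    rw [one_mul] at h
    exact form_coeff h
  have hindep : ∀ x, Z x → eval x Δ ≠ 0 → ∀ P : Ideal (MvPolynomial (Fin (m + 1)) k), P.IsPrime →
      pre i x ≤ P → m - i + 1 ≤ dimQ k P → ∀ a, form (wf a) ∈ P → a = 0 := by
    intro x hx hxΔ P hP hle hdim a ha
    have hind := (dimQ_le_of_null (pre_isHomogeneous i x) (hΔg x hxΔ) hle).2 hdim
    have h0 : form a = 0 := by
      refine AlgebraicIndependent.eq_zero_of_aeval_eq_zero hind _ ?_
      rw [hwf] at ha
      rw [← Ideal.Quotient.eq_zero_iff_mem.2 ha, ← Ideal.Quotient.mkₐ_eq_mk k, ← AlgHom.comp_apply,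
        comp_aeval]
    funext e
    simpa [coeff_form] using congrArg (coeff e.1) h0
  have hwf_inj : Function.Injective wf := by
    rw [← LinearMap.ker_eq_bot, LinearMap.ker_eq_bot']
    intro a ha
    obtain ⟨P, hP, hle, hdim⟩ := exists_prime_of_not_good (hbadI x0 hx0)
    refine hindep x0 hx0 hΔ0 P hP (le_trans ?_ hle) (by omega) a (by
      rw [ha, show form (0 : Idx m (i + 1) → k) = 0 by simp [form]]; exact P.zero_mem)
    exact pre_mono i x0
  let T := {z : Var m d // z.1 ≠ j0} ⊕ Fin (Module.finrank k ((Idx m (i + 1) → k) ⧸ W))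
  let b := Module.finBasis k ((Idx m (i + 1) → k) ⧸ W)
  let ψ : T → MvPolynomial (Var m d) k := Sum.elim (fun z => X z.1) (fun l =>
    ∑ e : Idx m (i + 1), C (b.repr (W.mkQ (Pi.single e 1)) l) * X (⟨j0, e⟩ : Var m d))
  have hψ : ∀ x l, eval x (ψ (.inr l)) = b.repr (W.mkQ (fun e => x ⟨j0, e⟩)) l := by
    intro x l
    conv_rhs => rw [show (fun e : Idx m (i + 1) => x ⟨j0, e⟩) =
      ∑ e : Idx m (i + 1), x ⟨j0, e⟩ • Pi.single (M := fun _ => k) e 1 by funext e; simp [Pi.single_apply]]
    simp only [ψ, Sum.elim_inr, map_sum, map_mul, eval_C, eval_X, map_smul, Finsupp.finsetSum_apply, Finsupp.smul_apply, smul_eq_mul]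
    exact Finset.sum_congr rfl fun e _ => mul_comm _ _
  have hdimQ : dimQ k Q ≤ Fintype.card T := by
    refine dimQ_le_of_finite_fibre Q hΔQ (fun l => ψ ((Fintype.equivFin T).symm l)) fun v => ?_
    have hsame : ∀ x : Var m d → k, (∀ l, eval x (ψ ((Fintype.equivFin T).symm l)) =
        eval v (ψ ((Fintype.equivFin T).symm l))) → ∀ t, eval x (ψ t) = eval v (ψ t) := fun x hx t => by
      have := hx (Fintype.equivFin T t)
      rwa [Equiv.symm_apply_apply] at this
    have hP : ∀ x : {x : Var m d → k | (∀ q ∈ Q, eval x q = 0) ∧ eval x Δ ≠ 0 ∧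
        ∀ l, eval x (ψ ((Fintype.equivFin T).symm l)) = eval v (ψ ((Fintype.equivFin T).symm l))},
        ∃ P, P ∈ (pre i v).minimalPrimes ∧ m - i + 1 ≤ dimQ k P ∧
          form (fun e => x.1 ⟨j0, e⟩) ∈ P ∧ pre i x.1 = pre i v := by
      rintro ⟨x, hxQ, hxΔ, hxψ⟩
      have hxt := hsame x hxψ
      have hpre : pre i x = pre i v := by
        unfold pre
        congr 1
        refine congrArg Set.range (funext fun j => congrArg form (funext fun e => ?_))
        simpa [ψ] using hxt (.inl ⟨⟨j.1, e⟩, fun h => by have := j.2; rw [show j.1 = j0 from h] at this; exact lt_irrefl _ this⟩)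
      obtain ⟨P, hP, hle, hdim⟩ := exists_prime_of_not_good (hbadI x hxQ)
      have hle' : pre i x ≤ P :=
        le_trans (pre_mono i x) hle
      obtain ⟨P', hP', hle''⟩ := Ideal.exists_minimalPrimes_le hle'
      have : P'.IsPrime := hP'.1.1
      have heq : P' = P := by
        by_contra hne
        have h1 := Lib.Dim.Basic.dimQ_lt_of_lt k (lt_of_le_of_ne hle'' hne)
        have h2 := (dimQ_le_of_null (pre_isHomogeneous i x) (hΔg x hxΔ) hP'.1.2).1
        omega
      refine ⟨P, hpre ▸ heq ▸ hP', by omega, hle (Ideal.subset_span (Set.mem_range_self (⟨j0, Nat.lt_succ_self i⟩ : {j : Fin d // j.1 < i + 1}))), hpre⟩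
    choose P hPmin hPdim hPmem hPpre using hP
    have hfin : Finite (pre i v).minimalPrimes :=
      Set.Finite.to_subtype (pre i v).finite_minimalPrimes_of_isNoetherianRing
    refine Set.finite_coe_iff.1 (Finite.of_injective (fun x => (⟨P x, hPmin x⟩ : (pre i v).minimalPrimes)) ?_)
    intro x y hxy
    have hxy' : P x = P y := congrArg Subtype.val hxy
    have hxt := hsame x.1 x.2.2.2
    have hyt := hsame y.1 y.2.2.2
    have hmem : (fun e => x.1 ⟨j0, e⟩) - (fun e => y.1 ⟨j0, e⟩) ∈ W := by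
      rw [← Submodule.Quotient.eq]
      refine b.repr.injective (Finsupp.ext fun l => ?_)
      have := (hxt (.inr l)).trans (hyt (.inr l)).symm
      rwa [hψ, hψ] at this
    obtain ⟨a, ha⟩ := hmem
    have hPp : (P x).IsPrime := (hPmin x).1.1
    have hzero : a = 0 := by
      refine hindep x.1 x.2.1 x.2.2.1 (P x) hPp (by rw [hPpre x]; exact (hPmin x).1.2) (hPdim x) a ?_
      rw [ha, show form ((fun e => x.1 ⟨j0, e⟩) - fun e => y.1 ⟨j0, e⟩) =
        form (fun e => x.1 ⟨j0, e⟩) - form (fun e => y.1 ⟨j0, e⟩) by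
          simp [form, ← Finset.sum_sub_distrib]]
      exact (P x).sub_mem (hPmem x) (hxy' ▸ hPmem y)
    refine Subtype.ext (funext fun ⟨j, e⟩ => ?_)
    by_cases hj : j = j0
    · subst hj
      have := congrFun (show (fun e => x.1 ⟨j0, e⟩) - (fun e => y.1 ⟨j0, e⟩) = 0 by
        rw [← ha, hzero, map_zero]) e
      exact sub_eq_zero.1 this
    · have := (hxt (.inl ⟨⟨j, e⟩, hj⟩)).trans (hyt (.inl ⟨⟨j, e⟩, hj⟩)).symm
      simpa [ψ] using this
  -- counting
  have hcard : Fintype.card T + Nat.card (Idx (m - i) (i + 1)) = Fintype.card (Var m d) := by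
    have h1 := W.finrank_quotient_add_finrank
    rw [LinearMap.finrank_range_of_inj hwf_inj, Module.finrank_fintype_fun_eq_card,
      Module.finrank_fintype_fun_eq_card, ← Nat.card_eq_fintype_card] at h1
    have h2 : Fintype.card {z : Var m d // z.1 = j0} = Fintype.card (Idx m (i + 1)) :=
      Fintype.card_congr (Equiv.sigmaSubtype (β := fun j : Fin d => Idx m (j.1 + 1)) j0)
    have h3 := Fintype.card_congr (Equiv.sumCompl fun z : Var m d => z.1 = j0)
    rw [Fintype.card_sum, h2] at h3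
    have h4 : Fintype.card {z : Var m d // z.1 ≠ j0} = Fintype.card {z : Var m d // ¬ z.1 = j0} :=
      Fintype.card_congr (Equiv.refl _)
    simp only [T, Fintype.card_sum, Fintype.card_fin]
    simp only [Nat.card_eq_fintype_card] at h1 ⊢
    omega
  rw [Forms.card_idx, show m - i + (i + 1) = m + 1 by omega] at hcard
  have hchoose : m + 1 ≤ (m + 1).choose (i + 1) := le_choose (by omega) (by omega)
  have hsum := Lib.Dim.Basic.height_add_dimQ k Q
  rw [trdegNat, MvPolynomial.trdeg_of_isDomain, Cardinal.mk_fintype, Cardinal.lift_natCast, Cardinal.toNat_natCast] at hsum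
  have hne : Q.height ≠ ⊤ := fun h => by rw [h, top_add] at hsum; exact ENat.natCast_ne_top _ hsum.symm
  obtain ⟨hgt, hh⟩ := ENat.ne_top_iff_exists.1 hne
  rw [← hh] at hsum ⊢
  norm_cast at hsum ⊢
  omega

end Groth.Agent.Lib.PolyFun45.Seq
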